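import Groth.Agent.AdeqSite.Exact

/-!
# Faithfully flat exactness for adequate modules on affines
-/

set_option backward.isDefEq.respectTransparency false

universe u

open CategoryTheory Limits AlgebraicGeometry Opposite TensorProduct

namespace Groth.Agent.AdeqLib

open Adeq

variable {A : Type u} [CommRing A] (B : Type u) [CommRing B] [Algebra A B]

/-- The map `B → B ⊗ A`. -/
noncomputable def toBC :
    algOf A B ⟶ bcAlg (fun _ : PUnit.{u + 1} => B) PUnit.unit (algOf A A) :=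
  letI : Algebra A (B ⊗[A] A) := ((algebraMap B (B ⊗[A] A)).comp (algebraMap A B)).toAlgebra
  CommAlgCat.ofHom
    { (Algebra.TensorProduct.includeLeftRingHom : B →+* B ⊗[A] A) with
      commutes' := fun _ => rfl }

/-- The map `B ⊗ A → B`. -/
noncomputable def ofBC :
    bcAlg (fun _ : PUnit.{u + 1} => B) PUnit.unit (algOf A A) ⟶ algOf A B :=
  letI : Algebra A (B ⊗[A] A) := ((algebraMap B (B ⊗[A] A)).comp (algebraMap A B)).toAlgebra
  CommAlgCat.ofHom
    { (Algebra.TensorProduct.rid A B B).toRingEquiv.toRingHom with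
      commutes' := fun a => by
        change Algebra.TensorProduct.rid A B B (algebraMap A B a ⊗ₜ[A] (1 : A)) = algebraMap A B a
        rw [Algebra.TensorProduct.rid_tmul, one_smul] }

/-- Extend two maps out of `B` to a map out of `B ⊗ B`. -/
noncomputable def liftAlg {T : Alg A} (f g : algOf A B ⟶ T) : algOf A (B ⊗[A] B) ⟶ T :=
  CommAlgCat.ofHom (Algebra.TensorProduct.lift f.hom g.hom fun _ _ => .all _ _)

theorem includeLeft_liftAlg {T : Alg A} (f g : algOf A B ⟶ T) :
    (CommAlgCat.ofHom (Algebra.TensorProduct.includeLeft : B →ₐ[A] B ⊗[A] B) :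
        algOf A B ⟶ algOf A (B ⊗[A] B)) ≫ liftAlg B f g = f :=
  CommAlgCat.hom_ext (Algebra.TensorProduct.lift_comp_includeLeft f.hom g.hom fun _ _ => .all _ _)

theorem includeRight_liftAlg {T : Alg A} (f g : algOf A B ⟶ T) :
    (CommAlgCat.ofHom (Algebra.TensorProduct.includeRight : B →ₐ[A] B ⊗[A] B) :
        algOf A B ⟶ algOf A (B ⊗[A] B)) ≫ liftAlg B f g = g :=
  CommAlgCat.hom_ext (Algebra.TensorProduct.lift_comp_includeRight f.hom g.hom fun _ _ => .all _ _)

/-- The map `B ⊗ B → B ⊗ (B ⊗ A)`. -/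
noncomputable def toBC₂ : algOf A (B ⊗[A] B) ⟶
    bcAlg (fun _ : PUnit.{u + 1} => B) PUnit.unit (bcAlg (fun _ : PUnit.{u + 1} => B) PUnit.unit (algOf A A)) :=
  liftAlg B (toBC B ≫ bcMap (fun _ : PUnit.{u + 1} => B) PUnit.unit (Alg.unit A B (algOf A A)))
    (toBC B ≫ Alg.unit A B (bcAlg (fun _ : PUnit.{u + 1} => B) PUnit.unit (algOf A A)))

theorem includeLeft_toBC₂ :
    (CommAlgCat.ofHom (Algebra.TensorProduct.includeLeft : B →ₐ[A] B ⊗[A] B) :
        algOf A B ⟶ algOf A (B ⊗[A] B)) ≫ toBC₂ B =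
      toBC B ≫ bcMap (fun _ : PUnit.{u + 1} => B) PUnit.unit (Alg.unit A B (algOf A A)) :=
  includeLeft_liftAlg B _ _

theorem includeRight_toBC₂ :
    (CommAlgCat.ofHom (Algebra.TensorProduct.includeRight : B →ₐ[A] B ⊗[A] B) :
        algOf A B ⟶ algOf A (B ⊗[A] B)) ≫ toBC₂ B =
      toBC B ≫ Alg.unit A B (bcAlg (fun _ : PUnit.{u + 1} => B) PUnit.unit (algOf A A)) :=
  includeRight_liftAlg B _ _

theorem unit_ofBC :
    Alg.unit A B (algOf A A) ≫ ofBC B =
      (CommAlgCat.ofHom (Algebra.ofId A B) : algOf A A ⟶ algOf A B) :=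
  CommAlgCat.hom_ext (AlgHom.ext fun b => (Alg.unit A B (algOf A A) ≫ ofBC B).hom.commutes b)

theorem toBC_ofBC : toBC (A := A) B ≫ ofBC B = 𝟙 _ := by
  refine CommAlgCat.hom_ext (DFunLike.ext _ _ fun b => ?_)
  change Algebra.TensorProduct.rid A B B ((b : B) ⊗ₜ[A] (1 : A)) = b
  rw [Algebra.TensorProduct.rid_tmul, one_smul]

/-- Exactness of `F(A) → F(B) ⇉ F(B ⊗ B)` for `B` faithfully flat. -/
theorem exact_of_faithfullyFlat [Module.FaithfullyFlat A B] {F : MVF A} (hF : adequate A F) :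
    Function.Injective (F.map (ptHom (CommAlgCat.ofHom (Algebra.ofId A B) : algOf A A ⟶ algOf A B))) ∧
      ∀ y : F.obj (pt (algOf A B)),
        fm F (CommAlgCat.ofHom (Algebra.TensorProduct.includeLeft : B →ₐ[A] B ⊗[A] B) :
            algOf A B ⟶ algOf A (B ⊗[A] B)) y =
          fm F (CommAlgCat.ofHom (Algebra.TensorProduct.includeRight : B →ₐ[A] B ⊗[A] B) :
            algOf A B ⟶ algOf A (B ⊗[A] B)) y →
        y ∈ Set.range (F.map (ptHom (CommAlgCat.ofHom (Algebra.ofId A B) : algOf A A ⟶ algOf A B))) := by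
  have hR := AdeqSite.ffFam_punit (A := A) B
  have h0 : ∀ x, fm F (CommAlgCat.ofHom (Algebra.ofId A B) : algOf A A ⟶ algOf A B) x =
      fm F (ofBC B) (fm F (Alg.unit A B (algOf A A)) x) := fun x => by
    rw [← unit_ofBC]
    exact Fmap_comp F _ _ x
  refine ⟨?_, fun y hy => ?_⟩
  · change Function.Injective (fm F _)
    refine (injective_iff_map_eq_zero _).2 fun x hx => ?_
    refine eq_zero_of_family hF (fun _ : PUnit.{u + 1} =>
      (CommAlgCat.ofHom (Algebra.ofId A B) : algOf A A ⟶ algOf A B)) ?_ x fun _ => hx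
    have hf : (algebraMap A B).FaithfullyFlat := RingHom.faithfullyFlat_algebraMap_iff.2 inferInstance
    obtain ⟨h1, h2⟩ := RingHom.FaithfullyFlat.iff_flat_and_comap_surjective.1 hf
    exact ⟨fun _ => h1, fun p => ⟨PUnit.unit, h2 p⟩⟩
  · obtain ⟨x, hx⟩ := exists_glue_family (R' := fun _ : PUnit.{u + 1} => B) hR hF (algOf A A)
      (fun _ => fm F (toBC B) y) (fun _ _ => by
        refine (fm_comm F (includeLeft_toBC₂ B).symm y).trans ((congrArg _ hy).trans ?_)
        exact fm_comm F (includeRight_toBC₂ B) y)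
    have e1 : fm F (ofBC B) (fm F (Alg.unit A B (algOf A A)) x) = fm F (ofBC B) (fm F (toBC B) y) :=
      congrArg _ (hx PUnit.unit)
    have e2 : fm F (toBC (A := A) B ≫ ofBC B) y = fm F (ofBC B) (fm F (toBC B) y) := Fmap_comp F _ _ y
    rw [toBC_ofBC] at e2
    exact ⟨x, (h0 x).trans (e1.trans (e2.symm.trans (Fmap_id F y)))⟩

end Groth.Agent.AdeqLib
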