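import Groth.Prelude.Def_Adeq2
import Groth.Agent.AdeqLib.FamilyDescent

/-!
# Adequate modules on big sites: gluing of sections and affine descent
-/

set_option backward.isDefEq.respectTransparency false

universe u w

open CategoryTheory Limits AlgebraicGeometry Opposite TensorProduct

namespace Groth.Agent.AdeqSite

open Groth.Agent.AdeqLib

variable {K : Precoverage Scheme.{u}} [BigSite.OSh K] {S : Scheme.{u}}

section Glue

/-- Restriction of sections of a module along a map of objects of the big site. -/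
noncomputable def rs (M : BigSite.Mod K S) {U V : Over S} (g : V ⟶ U) :
    BigSite.sectMod K M U →+ BigSite.sectMod K M V :=
  (M.val.presheaf.map g.op).hom

theorem rs_comp (M : BigSite.Mod K S) {U V W : Over S} (g : V ⟶ U) (h : W ⟶ V) (x : BigSite.sectMod K M U) :
    rs M (h ≫ g) x = rs M h (rs M g x) :=
  CategoryTheory.congr_fun (M.val.presheaf.map_comp g.op h.op) x

theorem rs_id (M : BigSite.Mod K S) {U : Over S} (x : BigSite.sectMod K M U) : rs M (𝟙 U) x = x :=
  CategoryTheory.congr_fun (M.val.presheaf.map_id (op U)) x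

theorem isSheafFor_of_mem (M : BigSite.Mod K S) {U : Over S} {ι : Type w} (V : ι → Over S)
    (f : ∀ i, V i ⟶ U)
    (hcov : Presieve.ofArrows (fun i => (V i).left) (fun i => (f i).left) ∈ K.coverings U.left) :
    Presieve.IsSheafFor (M.val.presheaf ⋙ CategoryTheory.forget _) (Presieve.ofArrows V f) := by
  have h1 := (Presheaf.isSheaf_iff_isSheaf_forget (QuotSh.J K S) M.val.presheaf
    (CategoryTheory.forget _)).1 M.isSheaf
  rw [isSheaf_iff_isSheaf_of_type] at h1
  refine Presieve.IsSheaf.isSheafFor h1 _ ?_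
  rw [GrothendieckTopology.mem_over_iff]
  change Sieve.overEquiv U (Sieve.ofArrows V f) ∈ K.toGrothendieck U.left
  rw [Sieve.overEquiv_ofArrows]
  exact Precoverage.generate_mem_toGrothendieck hcov

/-- Gluing of sections along a covering whose pairwise fibre products are given. -/
theorem exists_unique_glue (M : BigSite.Mod K S) {U : Over S} {ι : Type w} (V : ι → Over S)
    (f : ∀ i, V i ⟶ U)
    (hcov : Presieve.ofArrows (fun i => (V i).left) (fun i => (f i).left) ∈ K.coverings U.left)
    (W : ι → ι → Over S) (p : ∀ i j, W i j ⟶ V i) (q : ∀ i j, W i j ⟶ V j)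
    (hpb : ∀ i j, IsPullback (p i j).left (q i j).left (f i).left (f j).left)
    (y : ∀ i, BigSite.sectMod K M (V i)) (hy : ∀ i j, rs M (p i j) (y i) = rs M (q i j) (y j)) :
    ∃! t, ∀ i, rs M (f i) t = y i := by
  refine (Presieve.isSheafFor_arrows_iff _ _).1 (isSheafFor_of_mem M V f hcov) y ?_
  intro i j Z gi gj hg
  obtain ⟨l, hl₁, hl₂⟩ : ∃ l, l ≫ (p i j).left = gi.left ∧ l ≫ (q i j).left = gj.left :=
    ⟨(hpb i j).lift gi.left gj.left (congrArg CommaMorphism.left hg), (hpb i j).lift_fst _ _ _,
      (hpb i j).lift_snd _ _ _⟩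
  let h : Z ⟶ W i j := Over.homMk l (by
    rw [← Over.w (p i j), ← Category.assoc, hl₁, Over.w gi])
  have h₁ : h ≫ p i j = gi := Over.OverMorphism.ext hl₁
  have h₂ : h ≫ q i j = gj := Over.OverMorphism.ext hl₂
  change rs M gi (y i) = rs M gj (y j)
  rw [← h₁, ← h₂, rs_comp, rs_comp, hy]

/-- A section vanishing on every member of a covering vanishes. -/
theorem eq_zero_of_cover (M : BigSite.Mod K S) {U : Over S} {ι : Type w} (V : ι → Over S)
    (f : ∀ i, V i ⟶ U)
    (hcov : Presieve.ofArrows (fun i => (V i).left) (fun i => (f i).left) ∈ K.coverings U.left)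
    (t : BigSite.sectMod K M U) (ht : ∀ i, rs M (f i) t = 0) : t = 0 :=
  (isSheafFor_of_mem M V f hcov).isSeparatedFor.ext fun _ _ ⟨i⟩ =>
    (show rs M (f i) t = rs M (f i) 0 by rw [ht i, map_zero])

end Glue

section Affine

variable {A : Type u} [CommRing A]

/-- The map of spectra of a map of algebras. -/
noncomputable abbrev specHom {B C : Adeq.Alg A} (h : B ⟶ C) :
    CommRingCat.of B ⟶ CommRingCat.of C :=
  CommRingCat.ofHom h.hom.toRingHom

variable (R' : Type u) [CommRing R'] [Algebra A R']

/-- `B → R' ⊗ B` and `A → R'` form a pushout square. -/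
theorem isPushout_unit (B : Adeq.Alg A) :
    IsPushout (CommRingCat.ofHom (algebraMap A B)) (CommRingCat.ofHom (algebraMap A R'))
      (specHom (Adeq.Alg.unit A R' B)) (CommRingCat.ofHom (algebraMap R' (R' ⊗[A] B))) :=
  (CommRingCat.isPushout_tensorProduct A R' B).flip

/-- For `h : B → C` the ring `R' ⊗ C` is the pushout of `C` and `R' ⊗ B` over `B`. -/
theorem isPushout_bc {B C : Adeq.Alg A} (h : B ⟶ C) :
    IsPushout (specHom h) (specHom (Adeq.Alg.unit A R' B)) (specHom (Adeq.Alg.unit A R' C))
      (specHom ((Adeq.Alg.restr A R').map ((Adeq.Alg.baseChange A R').map h))) := by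
  refine IsPushout.of_left ?_ ?_ (isPushout_unit R' B)
  · have e1 : CommRingCat.ofHom (algebraMap A B) ≫ specHom h = CommRingCat.ofHom (algebraMap A C) :=
      CommRingCat.hom_ext h.hom.comp_algebraMap
    have e2 : CommRingCat.ofHom (algebraMap R' (R' ⊗[A] B)) ≫
        specHom ((Adeq.Alg.restr A R').map ((Adeq.Alg.baseChange A R').map h)) =
          CommRingCat.ofHom (algebraMap R' (R' ⊗[A] C)) :=
      CommRingCat.hom_ext ((Adeq.Alg.baseChange A R').map h).hom.comp_algebraMap
    rw [e1, e2]
    exact isPushout_unit R' C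
  · refine CommRingCat.hom_ext (RingHom.ext fun b => ?_)
    exact CategoryTheory.congr_fun (AdeqLib.unit_naturality (A' := R') h) b

end Affine

section Descent

variable {R : CommRingCat.{u}} (a : Spec R ⟶ S)

/-- The object `Spec B → S` of the big site. -/
noncomputable abbrev obj (B : Adeq.Alg R) : Over S := (Adeq.specOver a).obj (op B)

/-- The map of objects of the big site given by a map of algebras. -/
noncomputable abbrev hom {B C : Adeq.Alg R} (h : B ⟶ C) : obj a C ⟶ obj a B := (Adeq.specOver a).map h.op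

theorem toMVF_map_apply (M : BigSite.Mod K S) {B C : Adeq.Alg R} (h : B ⟶ C)
    (x : ((Adeq.toMVF K a).obj M).obj (Adeq.pt B)) :
    ((Adeq.toMVF K a).obj M).map (Adeq.ptHom h) x = rs M (hom a h) x := rfl

variable [K.IsStableUnderBaseChange] {ι : Type u} (R' : ι → Type u) [∀ i, CommRing (R' i)]
  [∀ i, Algebra R (R' i)]

omit [BigSite.OSh K] in
theorem cover_baseChange
    (hcov : Presieve.ofArrows (fun i => Spec (CommRingCat.of (R' i)))
      (fun i => Spec.map (CommRingCat.ofHom (algebraMap R (R' i)))) ∈ K.coverings (Spec R))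
    (B : Adeq.Alg R) :
    Presieve.ofArrows (fun i => (obj a (bcAlg R' i B)).left)
      (fun i => (hom a (Adeq.Alg.unit R (R' i) B)).left) ∈ K.coverings (obj a B).left :=
  Precoverage.mem_coverings_of_isPullback _ hcov (Spec.map (CommRingCat.ofHom (algebraMap R B)))
    _ (fun i => Spec.map (CommRingCat.ofHom (algebraMap (R' i) ((R' i) ⊗[R] B))))
    (fun i => isPullback_SpecMap_of_isPushout _ _ _ _ (isPushout_unit (R' i) B))

theorem isPullback_double (i j : ι) (B : Adeq.Alg R) :
    IsPullback (hom a (bcMap R' i (Adeq.Alg.unit R (R' j) B))).left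
      (hom a (Adeq.Alg.unit R (R' i) (bcAlg R' j B))).left
      (hom a (Adeq.Alg.unit R (R' i) B)).left (hom a (Adeq.Alg.unit R (R' j) B)).left :=
  (isPullback_SpecMap_of_isPushout _ _ _ _ (isPushout_bc (R' i) (Adeq.Alg.unit R (R' j) B))).flip

theorem adequate_of_cover [Finite ι] (M : BigSite.Mod K S)
    (hcov : Presieve.ofArrows (fun i => Spec (CommRingCat.of (R' i)))
      (fun i => Spec.map (CommRingCat.ofHom (algebraMap R (R' i)))) ∈ K.coverings (Spec R))
    (h₁ : ∀ i, Adeq.adequate (R' i) ((Adeq.restr R (R' i)).obj ((Adeq.toMVF K a).obj M))) :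
    Adeq.adequate R ((Adeq.toMVF K a).obj M) :=
  AdeqLib.adequate_of_family R' _ h₁
    (fun B x hx => eq_zero_of_cover M (fun i => obj a (bcAlg R' i B))
      (fun i => hom a (Adeq.Alg.unit R (R' i) B)) (cover_baseChange a R' hcov B) x fun i =>
        (toMVF_map_apply a M _ x).symm.trans (hx i))
    (fun B y hy => by
      obtain ⟨t, ht, -⟩ := exists_unique_glue M (fun i => obj a (bcAlg R' i B))
        (fun i => hom a (Adeq.Alg.unit R (R' i) B)) (cover_baseChange a R' hcov B)
        (fun i j => obj a (bcAlg R' i (bcAlg R' j B)))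
        (fun i j => hom a (bcMap R' i (Adeq.Alg.unit R (R' j) B)))
        (fun i j => hom a (Adeq.Alg.unit R (R' i) (bcAlg R' j B)))
        (fun i j => isPullback_double a R' i j B) y (fun i j => hy i j)
      exact ⟨t, fun i => ht i⟩)

end Descent

end Groth.Agent.AdeqSite
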