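import Groth.Agent.AdeqSite.Exact

/-!
# Affine charts of a base change and pushforward of modules
-/

set_option backward.isDefEq.respectTransparency false

universe u

open CategoryTheory Limits AlgebraicGeometry Opposite TensorProduct

namespace Groth.Agent.AdeqSite

open Groth.Agent.AdeqLib

theorem appTop_gamma {B C : CommRingCat.{u}} (φ : B ⟶ C) (c : B) :
    (Spec.map φ).appTop ((Scheme.ΓSpecIso B).inv c) = (Scheme.ΓSpecIso C).inv (φ c) :=
  (CategoryTheory.congr_fun (Scheme.ΓSpecIso_inv_naturality φ) c).symm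

variable {K : Precoverage Scheme.{u}} [BigSite.OSh K] {S T : Scheme.{u}} {R : CommRingCat.{u}}
variable (a : Spec R ⟶ S) (f : T ⟶ S)

/-- An affine chart of `Spec R ×_S T`. -/
structure Chart where
  /-- the ring of the chart -/
  A : Type u
  [ring : CommRing A]
  [alg : Algebra R A]
  /-- the map to the base change -/
  j : Spec (CommRingCat.of A) ⟶ pullback a f
  hj : j ≫ pullback.fst a f = Spec.map (CommRingCat.ofHom (algebraMap R A))

attribute [instance] Chart.ring Chart.alg

variable {a f}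

/-- The chart as a scheme over `T`. -/
noncomputable abbrev Chart.b (c : Chart a f) : Spec (CommRingCat.of c.A) ⟶ T := c.j ≫ pullback.snd a f

theorem Chart.w (c : Chart a f) :
    Spec.map (CommRingCat.ofHom (algebraMap R c.A)) ≫ a = c.b ≫ f := by
  rw [← c.hj, Category.assoc, Category.assoc, pullback.condition]

/-- The object `Spec (A ⊗ B) → T`. -/
noncomputable abbrev Chart.obj (c : Chart a f) (B : Adeq.Alg R) : Over T :=
  AdeqSite.obj c.b ((Adeq.Alg.baseChange R c.A).obj B)

theorem Chart.phi_w (c : Chart a f) (B : Adeq.Alg R) :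
    Spec.map (specHom (Adeq.Alg.unit R c.A B)) ≫ (AdeqSite.obj a B).hom =
      (Spec.map (CommRingCat.ofHom (algebraMap c.A (c.A ⊗[(R : Type u)] (B : Type u)))) ≫ c.b) ≫ f := by
  have hp := (isPushout_unit c.A B).w
  change Spec.map _ ≫ Spec.map _ ≫ a = _
  rw [Category.assoc, ← c.w, ← Spec.map_comp_assoc, ← Spec.map_comp_assoc, hp]

/-- The map `Spec (A ⊗ B) → Spec B ×_S T`. -/
noncomputable def Chart.phiLeft (c : Chart a f) (B : Adeq.Alg R) :
    Spec (CommRingCat.of (c.A ⊗[(R : Type u)] (B : Type u))) ⟶ pullback (AdeqSite.obj a B).hom f :=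
  pullback.lift (Spec.map (specHom (Adeq.Alg.unit R c.A B)))
    (Spec.map (CommRingCat.ofHom (algebraMap c.A (c.A ⊗[(R : Type u)] (B : Type u)))) ≫ c.b) (c.phi_w B)

theorem Chart.phiLeft_fst (c : Chart a f) (B : Adeq.Alg R) :
    c.phiLeft B ≫ pullback.fst _ _ = Spec.map (specHom (Adeq.Alg.unit R c.A B)) :=
  pullback.lift_fst _ _ _

theorem Chart.phiLeft_snd (c : Chart a f) (B : Adeq.Alg R) :
    c.phiLeft B ≫ pullback.snd _ _ =
      Spec.map (CommRingCat.ofHom (algebraMap c.A (c.A ⊗[(R : Type u)] (B : Type u)))) ≫ c.b :=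
  pullback.lift_snd _ _ _

/-- The map of objects over `T`. -/
noncomputable def Chart.phi (c : Chart a f) (B : Adeq.Alg R) :
    c.obj B ⟶ (Over.pullback f).obj (AdeqSite.obj a B) :=
  Over.homMk (c.phiLeft B) (c.phiLeft_snd B)

variable (f) in
/-- The base change of a map of affine objects. -/
noncomputable abbrev pullHom {B B' : Adeq.Alg R} (h : B ⟶ B') :
    (Over.pullback f).obj (AdeqSite.obj a B') ⟶ (Over.pullback f).obj (AdeqSite.obj a B) :=
  (Over.pullback f).map (AdeqSite.hom a h)

theorem pullHom_fst {B B' : Adeq.Alg R} (h : B ⟶ B') :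
    (pullHom f h : (Over.pullback f).obj (AdeqSite.obj a B') ⟶ _).left ≫ pullback.fst (AdeqSite.obj a B).hom f =
      pullback.fst (AdeqSite.obj a B').hom f ≫ Spec.map (specHom h) :=
  pullback.lift_fst _ _ _

theorem pullHom_snd {B B' : Adeq.Alg R} (h : B ⟶ B') :
    (pullHom f h : (Over.pullback f).obj (AdeqSite.obj a B') ⟶ _).left ≫ pullback.snd (AdeqSite.obj a B).hom f =
      pullback.snd (AdeqSite.obj a B').hom f :=
  pullback.lift_snd _ _ _

theorem Chart.phi_natural (c : Chart a f) {B B' : Adeq.Alg R} (h : B ⟶ B') :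
    AdeqSite.hom c.b ((Adeq.Alg.baseChange R c.A).map h) ≫ c.phi B = c.phi B' ≫ pullHom f h := by
  refine Over.OverMorphism.ext ?_
  change Spec.map (CommRingCat.ofHom _) ≫ c.phiLeft B = c.phiLeft B' ≫ ((Over.pullback f).map (AdeqSite.hom a h)).left
  refine pullback.hom_ext ?_ ?_
  · rw [Category.assoc, Category.assoc, c.phiLeft_fst, ← Spec.map_comp]
    refine Eq.trans ?_ (congrArg (c.phiLeft B' ≫ ·) (pullHom_fst h)).symm
    refine Eq.trans ?_ ((congrArg (· ≫ Spec.map (specHom h)) (c.phiLeft_fst B')).symm.trans (Category.assoc _ _ _))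
    rw [← Spec.map_comp]
    exact congrArg Spec.map (isPushout_bc c.A h).w.symm
  · rw [Category.assoc, Category.assoc, c.phiLeft_snd, ← Category.assoc, ← Spec.map_comp]
    refine Eq.trans ?_ ((congrArg (c.phiLeft B' ≫ ·) (pullHom_snd h)).trans (c.phiLeft_snd B')).symm
    congr 2
    exact CommRingCat.hom_ext ((Adeq.Alg.baseChange R c.A).map h).hom.comp_algebraMap

variable (a f) in
/-- The canonical map `Spec B ×_S T → Spec R ×_S T`. -/
noncomputable def toTR (B : Adeq.Alg R) : pullback (AdeqSite.obj a B).hom f ⟶ pullback a f :=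
  pullback.lift (pullback.fst _ _ ≫ Spec.map (CommRingCat.ofHom (algebraMap R B))) (pullback.snd _ _)
    (by rw [Category.assoc]; exact pullback.condition)

theorem Chart.isPullback_phi (c : Chart a f) (B : Adeq.Alg R) :
    IsPullback (c.phiLeft B) (Spec.map (CommRingCat.ofHom (algebraMap c.A (c.A ⊗[(R : Type u)] (B : Type u)))))
      (toTR a f B) c.j := by
  have h0 : IsPullback (pullback.fst (AdeqSite.obj a B).hom f) (toTR a f B)
      (Spec.map (CommRingCat.ofHom (algebraMap R B))) (pullback.fst a f) := by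
    refine IsPullback.of_bot ?_ ?_ (IsPullback.of_hasPullback a f)
    · rw [toTR, pullback.lift_snd]
      exact IsPullback.of_hasPullback _ f
    · exact (pullback.lift_fst _ _ _).symm
  refine IsPullback.of_right ?_ ?_ h0
  · rw [c.phiLeft_fst, c.hj]
    exact isPullback_SpecMap_of_isPushout _ _ _ _ (isPushout_unit c.A B)
  · refine pullback.hom_ext ?_ ?_
    · rw [Category.assoc, Category.assoc, toTR, pullback.lift_fst, ← Category.assoc, c.phiLeft_fst, c.hj,
        ← Spec.map_comp, ← Spec.map_comp]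
      exact congrArg Spec.map (isPushout_unit c.A B).w
    · rw [Category.assoc, Category.assoc, toTR, pullback.lift_snd, c.phiLeft_snd]

variable (N : BigSite.Mod K T)

theorem Chart.rs_phi_smul (c : Chart a f) (B : Adeq.Alg R) (r : (B : Type u))
    (x : ((Adeq.toMVF K a).obj ((BigSite.pushMod K f).obj N)).obj (Adeq.pt B)) :
    rs N (c.phi B)
        (@HSMul.hSMul (B : Type u) (((Adeq.toMVF K a).obj ((BigSite.pushMod K f).obj N)).obj (Adeq.pt B))
          (((Adeq.toMVF K a).obj ((BigSite.pushMod K f).obj N)).obj (Adeq.pt B)) _ r x) =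
      @HSMul.hSMul ((Adeq.Alg.baseChange R c.A).obj B : Type u)
        (((Adeq.toMVF K c.b).obj N).obj (Adeq.pt ((Adeq.Alg.baseChange R c.A).obj B)))
        (((Adeq.toMVF K c.b).obj N).obj (Adeq.pt ((Adeq.Alg.baseChange R c.A).obj B))) _
        ((1 : c.A) ⊗ₜ[(R : Type u)] r) (rs N (c.phi B) x) := by
  let r₀ := Adeq.toSect K a B r
  refine (N.val.map_smul (c.phi B).op
    ((BigSite.ORingAbs K).obj.map (pullback.fst (AdeqSite.obj a B).hom f).op r₀) x).trans ?_
  refine congrArg (fun s => s • rs N (c.phi B) x) ?_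
  apply ULift.ext
  change (c.phiLeft B).appTop ((pullback.fst (AdeqSite.obj a B).hom f).appTop
    ((Scheme.ΓSpecIso (CommRingCat.of (B : Type u))).inv r)) = _
  rw [← ConcreteCategory.comp_apply, ← Scheme.Hom.comp_appTop, c.phiLeft_fst]
  exact appTop_gamma (specHom (Adeq.Alg.unit R c.A B)) r

/-- The restriction to a chart. -/
noncomputable def Chart.eta (c : Chart a f) :
    (Adeq.toMVF K a).obj ((BigSite.pushMod K f).obj N) ⟶ (Adeq.push R c.A).obj ((Adeq.toMVF K c.b).obj N) :=
  mvfHomMk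
    (fun B =>
      { toFun := fun x => rs N (c.phi B) x
        map_add' := fun x y => map_add (rs N (c.phi B)) x y
        map_smul' := fun r x => c.rs_phi_smul N B r x })
    (fun _ _ h x => (rs_comp N _ _ x).symm.trans
      ((congrArg (fun g => rs N g x) (c.phi_natural h).symm).trans (rs_comp N _ _ x)))

theorem Chart.eta_apply (c : Chart a f) (B : Adeq.Alg R)
    (x : BigSite.sectMod K N ((Over.pullback f).obj (AdeqSite.obj a B))) :
    (c.eta N).app (Adeq.pt B) x = rs N (c.phi B) x := rfl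

/-- A map of charts. -/
structure ChartHom (c c' : Chart a f) where
  /-- the map of rings -/
  ψ : c.A →ₐ[R] c'.A
  w : Spec.map (CommRingCat.ofHom ψ.toRingHom) ≫ c.j = c'.j

variable {c c' : Chart a f} (h : ChartHom c c')

/-- The map `A ⊗ B → A' ⊗ B`. -/
noncomputable def ChartHom.bcRing (B : Adeq.Alg R) :
    CommRingCat.of (c.A ⊗[(R : Type u)] (B : Type u)) ⟶ CommRingCat.of (c'.A ⊗[(R : Type u)] (B : Type u)) :=
  CommRingCat.ofHom (Algebra.TensorProduct.map h.ψ (AlgHom.id R (B : Type u))).toRingHom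

theorem ChartHom.bcRing_algebraMap (B : Adeq.Alg R) :
    CommRingCat.ofHom (algebraMap c.A (c.A ⊗[(R : Type u)] (B : Type u))) ≫ h.bcRing B =
      CommRingCat.ofHom h.ψ.toRingHom ≫
        CommRingCat.ofHom (algebraMap c'.A (c'.A ⊗[(R : Type u)] (B : Type u))) := by
  refine CommRingCat.hom_ext (RingHom.ext fun x => ?_)
  exact (Algebra.TensorProduct.map_tmul h.ψ (AlgHom.id R (B : Type u)) x 1)

theorem ChartHom.bcRing_unit (B : Adeq.Alg R) :
    specHom (Adeq.Alg.unit R c.A B) ≫ h.bcRing B = specHom (Adeq.Alg.unit R c'.A B) := by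
  refine CommRingCat.hom_ext (RingHom.ext fun x => ?_)
  exact (Algebra.TensorProduct.map_tmul h.ψ (AlgHom.id R (B : Type u)) 1 x).trans (by rw [map_one]; rfl)

/-- The map of objects of a map of charts. -/
noncomputable def ChartHom.objHom (B : Adeq.Alg R) : c'.obj B ⟶ c.obj B :=
  Over.homMk (Spec.map (h.bcRing B)) (by
    change Spec.map _ ≫ Spec.map _ ≫ c.b = Spec.map _ ≫ c'.b
    rw [← Spec.map_comp_assoc]
    refine Eq.trans (congrArg (fun q => Spec.map q ≫ c.b) (h.bcRing_algebraMap B)) ?_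
    rw [Spec.map_comp, Category.assoc, Chart.b, Chart.b, reassoc_of% h.w])

theorem ChartHom.objHom_phi (B : Adeq.Alg R) : h.objHom B ≫ c.phi B = c'.phi B := by
  refine Over.OverMorphism.ext (pullback.hom_ext ?_ ?_)
  · change (Spec.map _ ≫ c.phiLeft B) ≫ _ = c'.phiLeft B ≫ _
    rw [Category.assoc, c.phiLeft_fst, c'.phiLeft_fst, ← Spec.map_comp]
    exact congrArg Spec.map (h.bcRing_unit B)
  · exact (Over.w (h.objHom B ≫ c.phi B)).trans (Over.w (c'.phi B)).symm

theorem ChartHom.objHom_natural {B B' : Adeq.Alg R} (g : B ⟶ B') :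
    AdeqSite.hom c'.b ((Adeq.Alg.baseChange R c'.A).map g) ≫ h.objHom B =
      h.objHom B' ≫ AdeqSite.hom c.b ((Adeq.Alg.baseChange R c.A).map g) := by
  refine Over.OverMorphism.ext ?_
  change Spec.map _ ≫ Spec.map _ = Spec.map _ ≫ Spec.map _
  rw [← Spec.map_comp, ← Spec.map_comp]
  refine congrArg Spec.map (CommRingCat.hom_ext ?_)
  refine congrArg AlgHom.toRingHom (?_ : (Algebra.TensorProduct.map (AlgHom.id (R : Type u) c'.A) g.hom).comp
    (Algebra.TensorProduct.map h.ψ (AlgHom.id (R : Type u) (B : Type u))) =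
      (Algebra.TensorProduct.map h.ψ (AlgHom.id (R : Type u) (B' : Type u))).comp
        (Algebra.TensorProduct.map (AlgHom.id (R : Type u) c.A) g.hom))
  exact Algebra.TensorProduct.ext' fun x y => rfl

theorem ChartHom.rs_smul (B : Adeq.Alg R) (r : (B : Type u))
    (x : BigSite.sectMod K N (c.obj B)) :
    rs N (h.objHom B)
        (@HSMul.hSMul ((Adeq.Alg.baseChange R c.A).obj B : Type u)
          (((Adeq.toMVF K c.b).obj N).obj (Adeq.pt ((Adeq.Alg.baseChange R c.A).obj B)))
          (((Adeq.toMVF K c.b).obj N).obj (Adeq.pt ((Adeq.Alg.baseChange R c.A).obj B))) _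
          ((1 : c.A) ⊗ₜ[(R : Type u)] r) x) =
      @HSMul.hSMul ((Adeq.Alg.baseChange R c'.A).obj B : Type u)
        (((Adeq.toMVF K c'.b).obj N).obj (Adeq.pt ((Adeq.Alg.baseChange R c'.A).obj B)))
        (((Adeq.toMVF K c'.b).obj N).obj (Adeq.pt ((Adeq.Alg.baseChange R c'.A).obj B))) _
        ((1 : c'.A) ⊗ₜ[(R : Type u)] r) (rs N (h.objHom B) x) := by
  refine (N.val.map_smul (h.objHom B).op (Adeq.toSect K c.b _ ((1 : c.A) ⊗ₜ[(R : Type u)] r)) x).trans ?_
  refine congrArg (fun s => s • rs N (h.objHom B) x) ?_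
  apply ULift.ext
  change (Spec.map (h.bcRing B)).appTop ((Scheme.ΓSpecIso _).inv _) = _
  rw [appTop_gamma]
  refine congrArg (Scheme.ΓSpecIso _).inv ?_
  exact CategoryTheory.congr_fun (h.bcRing_unit B) r

/-- The transition map of a map of charts. -/
noncomputable def ChartHom.mvfHom :
    (Adeq.push R c.A).obj ((Adeq.toMVF K c.b).obj N) ⟶ (Adeq.push R c'.A).obj ((Adeq.toMVF K c'.b).obj N) :=
  mvfHomMk
    (fun B =>
      { toFun := fun x => rs N (h.objHom B) x
        map_add' := fun x y => map_add (rs N (h.objHom B)) x y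
        map_smul' := fun r x => h.rs_smul N B r x })
    (fun _ _ g x => (rs_comp N _ _ x).symm.trans
      ((congrArg (fun q => rs N q x) (h.objHom_natural g).symm).trans (rs_comp N _ _ x)))

theorem ChartHom.eta_mvfHom : c.eta N ≫ h.mvfHom N = c'.eta N :=
  mvf_ext fun B x => (rs_comp N _ _ x).symm.trans (congrArg (fun q => rs N q x) (h.objHom_phi B))

end Groth.Agent.AdeqSite
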