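import Groth.Agent.AdeqSite.Chart

/-!
# Pushforward of adequate modules along quasi-compact quasi-separated morphisms
-/

set_option backward.isDefEq.respectTransparency false

universe u

open CategoryTheory Limits AlgebraicGeometry Opposite TensorProduct

namespace Groth.Agent.AdeqSite

open Groth.Agent.AdeqLib

section Charts

variable {K : Precoverage Scheme.{u}} [BigSite.OSh K] [K.IsStableUnderBaseChange] {S T : Scheme.{u}}
  {R : CommRingCat.{u}} {a : Spec R ⟶ S} {f : T ⟶ S}

/-- The chart of a morphism from an affine scheme. -/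
noncomputable def mkChart {A : CommRingCat.{u}} (j : Spec A ⟶ pullback a f) : Chart a f :=
  letI : Algebra R A := (Spec.preimage (j ≫ pullback.fst a f)).hom.toAlgebra
  { A := A
    j := j
    hj := (Spec.map_preimage _).symm }

instance {A : CommRingCat.{u}} (j : Spec A ⟶ pullback a f) [h : IsOpenImmersion j] :
    IsOpenImmersion (mkChart j).j := h

theorem exists_chartHom (c c' : Chart a f) (g : Spec (CommRingCat.of c'.A) ⟶ Spec (CommRingCat.of c.A))
    (hg : g ≫ c.j = c'.j) : ∃ h : ChartHom c c', Spec.map (CommRingCat.ofHom h.ψ.toRingHom) = g := by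
  have hc : CommRingCat.ofHom (algebraMap R c.A) ≫ Spec.preimage g = CommRingCat.ofHom (algebraMap R c'.A) := by
    refine Spec.map_injective ?_
    rw [Spec.map_comp, Spec.map_preimage, ← c.hj, ← c'.hj, ← Category.assoc, hg]
  let ψ : c.A →ₐ[R] c'.A :=
    { (Spec.preimage g).hom with
      commutes' := fun r => CategoryTheory.congr_fun hc r }
  exact ⟨⟨ψ, by rw [show CommRingCat.ofHom ψ.toRingHom = Spec.preimage g from rfl, Spec.map_preimage, hg]⟩,
    Spec.map_preimage g⟩

theorem isOpenImmersion_phiLeft (c : Chart a f) [IsOpenImmersion c.j] (B : Adeq.Alg R) :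
    IsOpenImmersion (c.phiLeft B) :=
  MorphismProperty.of_isPullback (P := @IsOpenImmersion) (c.isPullback_phi B).flip inferInstance

variable (hK : Scheme.zariskiPrecoverage ≤ K)
variable {κ : Type u} (c : κ → Chart a f) [∀ i, IsOpenImmersion (c i).j]
  (hcov : ∀ z : ↥(pullback a f), ∃ i, z ∈ Set.range (c i).j)

omit [BigSite.OSh K] [K.IsStableUnderBaseChange] in
include hK hcov in
theorem cover_phi (B : Adeq.Alg R) :
    Presieve.ofArrows (fun i => ((c i).obj B).left) (fun i => ((c i).phi B).left) ∈
      K.coverings ((Over.pullback f).obj (obj a B)).left := by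
  refine hK _ ?_
  refine (Scheme.ofArrows_mem_precoverage_iff _).2 ⟨fun x => ?_, fun i => isOpenImmersion_phiLeft (c i) B⟩
  obtain ⟨i, v, hv⟩ := hcov (toTR a f B x)
  obtain ⟨w, hw, -⟩ := Scheme.Pullback.exists_preimage_pullback (f := toTR a f B) (g := (c i).j) x v hv.symm
  refine ⟨i, ((c i).isPullback_phi B).isoPullback.inv w, ?_⟩
  change (c i).phiLeft B (((c i).isPullback_phi B).isoPullback.inv w) = x
  rw [← Scheme.Hom.comp_apply, IsPullback.isoPullback_inv_fst, hw]

variable (N : BigSite.Mod K T) [Finite κ] (κ₂ : κ → κ → Type u) [∀ i j, Finite (κ₂ i j)]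
  (c₂ : ∀ i j, κ₂ i j → Chart a f) [∀ i j k, IsOpenImmersion (c₂ i j k).j]
  (l : ∀ i j k, ChartHom (c i) (c₂ i j k)) (r : ∀ i j k, ChartHom (c j) (c₂ i j k))
  (hcov₂ : ∀ i j (z : ↥(pullback a f)), z ∈ Set.range (c i).j → z ∈ Set.range (c j).j →
    ∃ k, z ∈ Set.range (c₂ i j k).j)

omit [K.IsStableUnderBaseChange] in
include hK hcov l r hcov₂ in
theorem adequate_push_of_charts
    (hN : ∀ (c : Chart a f), Adeq.adequate c.A ((Adeq.toMVF K c.b).obj N)) :
    Adeq.adequate R ((Adeq.toMVF K a).obj ((BigSite.pushMod K f).obj N)) := by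
  let G : ULift.{u + 1} κ → Adeq.MVF R := fun i =>
    (Adeq.push R (c i.down).A).obj ((Adeq.toMVF K (c i.down).b).obj N)
  let G₂ : ULift.{u + 1} (Σ i j, κ₂ i j) → Adeq.MVF R := fun p =>
    (Adeq.push R (c₂ p.down.1 p.down.2.1 p.down.2.2).A).obj
      ((Adeq.toMVF K (c₂ p.down.1 p.down.2.1 p.down.2.2).b).obj N)
  refine adequate_of_equalizer G G₂ (fun i => adequate_push (hN _)) (fun p => adequate_push (hN _))
    (fun i => (c i.down).eta N) (fun p => ⟨p.down.1⟩) (fun p => ⟨p.down.2.1⟩)
    (fun p => (l _ _ p.down.2.2).mvfHom N) (fun p => (r _ _ p.down.2.2).mvfHom N)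
    (fun p => ((l _ _ p.down.2.2).eta_mvfHom N).trans ((r _ _ p.down.2.2).eta_mvfHom N).symm)
    (fun B x hx => eq_zero_of_cover N (fun i => (c i).obj B) (fun i => (c i).phi B)
      (cover_phi hK c hcov B) x fun i => hx ⟨i⟩)
    (fun B y hy => ?_)
  let W : κ → κ → Over T := fun i j =>
    Over.mk (pullback.fst ((c i).phiLeft B) ((c j).phiLeft B) ≫ ((c i).obj B).hom)
  let p : ∀ i j, W i j ⟶ (c i).obj B := fun i j => Over.homMk (pullback.fst _ _) rfl
  let q : ∀ i j, W i j ⟶ (c j).obj B := fun i j => Over.homMk (pullback.snd _ _) (by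
    change pullback.snd _ _ ≫ _ = pullback.fst _ _ ≫ _
    rw [← Over.w ((c i).phi B), ← Over.w ((c j).phi B), ← Category.assoc, ← Category.assoc]
    exact congrArg (· ≫ ((Over.pullback f).obj (obj a B)).hom) pullback.condition.symm)
  obtain ⟨t, ht, -⟩ := exists_unique_glue N (fun i => (c i).obj B) (fun i => (c i).phi B)
    (cover_phi hK c hcov B) W p q (fun i j => IsPullback.of_hasPullback _ _) (fun i => y ⟨i⟩) (fun i j => by
      let m : ∀ k : κ₂ i j, (c₂ i j k).obj B ⟶ W i j := fun k =>
        Over.homMk (pullback.lift ((l i j k).objHom B).left ((r i j k).objHom B).left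
          ((congrArg CommaMorphism.left ((l i j k).objHom_phi B)).trans
            (congrArg CommaMorphism.left ((r i j k).objHom_phi B)).symm)) (by
          change pullback.lift _ _ _ ≫ pullback.fst _ _ ≫ _ = _
          rw [pullback.lift_fst_assoc]
          exact Over.w ((l i j k).objHom B))
      have hm₁ : ∀ k, m k ≫ p i j = (l i j k).objHom B := fun k =>
        Over.OverMorphism.ext (pullback.lift_fst _ _ _)
      have hm₂ : ∀ k, m k ≫ q i j = (r i j k).objHom B := fun k =>
        Over.OverMorphism.ext (pullback.lift_snd _ _ _)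
      have hmem : Presieve.ofArrows (fun k => ((c₂ i j k).obj B).left) (fun k => (m k).left) ∈
          K.coverings (W i j).left := by
        refine hK _ ((Scheme.ofArrows_mem_precoverage_iff _).2 ?_)
        have hci := isOpenImmersion_phiLeft (c i) B
        have hcj := isOpenImmersion_phiLeft (c j) B
        have hW : IsOpenImmersion (pullback.fst ((c i).phiLeft B) ((c j).phiLeft B) ≫ (c i).phiLeft B) :=
          inferInstance
        have hfac : ∀ k, (m k).left ≫ (pullback.fst ((c i).phiLeft B) ((c j).phiLeft B) ≫ (c i).phiLeft B) =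
            (c₂ i j k).phiLeft B := fun k => by
          rw [← Category.assoc]
          exact congrArg CommaMorphism.left ((congrArg (· ≫ (c i).phi B) (hm₁ k)).trans ((l i j k).objHom_phi B))
        refine ⟨fun w => ?_, fun k => ?_⟩
        · let x := (pullback.fst ((c i).phiLeft B) ((c j).phiLeft B) ≫ (c i).phiLeft B) w
          have hi : toTR a f B x ∈ Set.range (c i).j := by
            refine ⟨(pullback.fst ((c i).phiLeft B) ((c j).phiLeft B) ≫ Spec.map (CommRingCat.ofHom
              (algebraMap (c i).A ((c i).A ⊗[(R : Type u)] (B : Type u))))) w, ?_⟩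
            rw [← Scheme.Hom.comp_apply, ← Scheme.Hom.comp_apply, Category.assoc, Category.assoc,
              ((c i).isPullback_phi B).w]
          have hj : toTR a f B x ∈ Set.range (c j).j := by
            refine ⟨(pullback.snd ((c i).phiLeft B) ((c j).phiLeft B) ≫ Spec.map (CommRingCat.ofHom
              (algebraMap (c j).A ((c j).A ⊗[(R : Type u)] (B : Type u))))) w, ?_⟩
            rw [← Scheme.Hom.comp_apply, ← Scheme.Hom.comp_apply, Category.assoc, Category.assoc,
              ← ((c j).isPullback_phi B).w, ← pullback.condition_assoc]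
          obtain ⟨k, v, hv⟩ := hcov₂ i j _ hi hj
          obtain ⟨z, hz, -⟩ := Scheme.Pullback.exists_preimage_pullback (f := toTR a f B)
            (g := (c₂ i j k).j) x v hv.symm
          refine ⟨k, ((c₂ i j k).isPullback_phi B).isoPullback.inv z, ?_⟩
          refine hW.base_open.injective ?_
          refine (Scheme.Hom.comp_apply (m k).left
            (pullback.fst ((c i).phiLeft B) ((c j).phiLeft B) ≫ (c i).phiLeft B) _).symm.trans ?_
          refine (congrArg (fun g : _ ⟶ pullback (obj a B).hom f =>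
            g (((c₂ i j k).isPullback_phi B).isoPullback.inv z)) (hfac k)).trans ?_
          rw [← Scheme.Hom.comp_apply, IsPullback.isoPullback_inv_fst, hz]
          rfl
        · have := isOpenImmersion_phiLeft (c₂ i j k) B
          have : IsOpenImmersion ((m k).left ≫
              (pullback.fst ((c i).phiLeft B) ((c j).phiLeft B) ≫ (c i).phiLeft B)) := by
            rw [hfac k]; infer_instance
          exact IsOpenImmersion.of_comp _ (pullback.fst ((c i).phiLeft B) ((c j).phiLeft B) ≫ (c i).phiLeft B)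
      refine sub_eq_zero.1 (eq_zero_of_cover N _ m hmem _ fun k => ?_)
      rw [map_sub, ← rs_comp, ← rs_comp, hm₁, hm₂, sub_eq_zero]
      exact hy ⟨⟨i, j, k⟩⟩)
  exact ⟨t, fun i => ht i.down⟩

end Charts

variable {K : Precoverage Scheme.{u}} [BigSite.OSh K] [K.IsStableUnderBaseChange] {S T : Scheme.{u}}

/-- Pushforward along a quasi-compact quasi-separated morphism preserves adequacy on affines. -/
theorem adequate_pushMod (hK : Scheme.zariskiPrecoverage ≤ K) (f : T ⟶ S) [QuasiCompact f] [QuasiSeparated f]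
    (N : BigSite.Mod K T)
    (hN : ∀ (A : CommRingCat.{u}) (b : Spec A ⟶ T), Adeq.adequate A ((Adeq.toMVF K b).obj N))
    (R : CommRingCat.{u}) (a : Spec R ⟶ S) :
    Adeq.adequate R ((Adeq.toMVF K a).obj ((BigSite.pushMod K f).obj N)) := by
  have : CompactSpace ↥(pullback a f) := QuasiCompact.compactSpace_of_compactSpace (pullback.fst a f)
  have : QuasiSeparatedSpace ↥(pullback a f) := quasiSeparatedSpace_of_quasiSeparated (pullback.fst a f)
  let 𝒰 := (pullback a f).affineCover.finiteSubcover
  let c : 𝒰.I₀ → Chart a f := fun i => mkChart (𝒰.f i)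
  have : ∀ i, IsOpenImmersion (c i).j := fun i => inferInstanceAs (IsOpenImmersion (mkChart (𝒰.f i)).j)
  have : ∀ i j, CompactSpace ↥(pullback (c i).j (c j).j) := fun i j =>
    QuasiCompact.compactSpace_of_compactSpace (pullback.fst (c i).j (c j).j)
  let 𝒱 : ∀ i j, (pullback (c i).j (c j).j).OpenCover := fun i j =>
    (pullback (c i).j (c j).j).affineCover.finiteSubcover
  let c₂ : ∀ i j, (𝒱 i j).I₀ → Chart a f := fun i j k =>
    mkChart ((𝒱 i j).f k ≫ pullback.fst (c i).j (c j).j ≫ (c i).j)
  have : ∀ i j k, IsOpenImmersion (c₂ i j k).j := fun i j k =>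
    inferInstanceAs (IsOpenImmersion (mkChart ((𝒱 i j).f k ≫ pullback.fst (c i).j (c j).j ≫ (c i).j)).j)
  choose l _ using fun i j k => exists_chartHom (c i) (c₂ i j k)
    ((𝒱 i j).f k ≫ pullback.fst (c i).j (c j).j) (Category.assoc _ _ _)
  choose r _ using fun i j k => exists_chartHom (c j) (c₂ i j k)
    ((𝒱 i j).f k ≫ pullback.snd (c i).j (c j).j)
    ((Category.assoc _ _ _).trans (congrArg ((𝒱 i j).f k ≫ ·) pullback.condition.symm))
  refine adequate_push_of_charts hK c
    (fun z => ⟨𝒰.idx z, 𝒰.covers z⟩) N (fun i j => (𝒱 i j).I₀) c₂ l r ?_ (fun c => hN (CommRingCat.of c.A) c.b)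
  intro i j z hi hj
  obtain ⟨vi, hvi⟩ := hi
  obtain ⟨vj, hvj⟩ := hj
  obtain ⟨v, hv, -⟩ := Scheme.Pullback.exists_preimage_pullback (f := (c i).j) (g := (c j).j) vi vj
    (hvi.trans hvj.symm)
  obtain ⟨v', hv'⟩ := (𝒱 i j).covers v
  refine ⟨(𝒱 i j).idx v, v', ?_⟩
  refine (Scheme.Hom.comp_apply ((𝒱 i j).f _) (pullback.fst (c i).j (c j).j ≫ (c i).j) v').trans ?_
  rw [hv', Scheme.Hom.comp_apply, hv, hvi]

end Groth.Agent.AdeqSite
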