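import Groth.Agent.AdeqSite.Closure
import Groth.Agent.AdeqLib.Ext

/-!
# Sections of adequate modules over affines are exact
-/

set_option backward.isDefEq.respectTransparency false

universe u

open CategoryTheory Limits AlgebraicGeometry Opposite TensorProduct

namespace Groth.Agent.AdeqSite

open Groth.Agent.AdeqLib

section General

variable {K : Precoverage Scheme.{u}} [BigSite.OSh K] {S : Scheme.{u}}

/-- A map of modules on sections. -/
noncomputable def sm {M N : BigSite.Mod K S} (g : M ⟶ N) (U : Over S) :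
    BigSite.sectMod K M U →+ BigSite.sectMod K N U :=
  (((PresheafOfModules.toPresheaf _).map g.val).app (op U)).hom

theorem sm_rs {M N : BigSite.Mod K S} (g : M ⟶ N) {U V : Over S} (h : V ⟶ U) (x : BigSite.sectMod K M U) :
    sm g V (rs M h x) = rs N h (sm g U x) :=
  CategoryTheory.congr_fun (((PresheafOfModules.toPresheaf _).map g.val).naturality h.op) x

theorem sm_injective {M N : BigSite.Mod K S} (g : M ⟶ N) [Mono g] (U : Over S) :
    Function.Injective (sm g U) := by
  have : Mono ((SheafOfModules.forget _ ⋙ PresheafOfModules.evaluation _ (op U)).map g) := inferInstance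
  exact (ModuleCat.mono_iff_injective _).1 this

theorem exists_sm_eq (C : ShortComplex (BigSite.Mod K S)) (hC : C.Exact) [Mono C.f] (U : Over S)
    (y : BigSite.sectMod K C.X₂ U) (hy : sm C.g U y = 0) : ∃ x, sm C.f U x = y :=
  (ShortComplex.moduleCat_exact_iff _).1
    (hC.map_of_mono_of_preservesKernel (SheafOfModules.forget _ ⋙ PresheafOfModules.evaluation _ (op U))
      inferInstance inferInstance) y hy

theorem sm_comp_zero (C : ShortComplex (BigSite.Mod K S)) (U : Over S) (x : BigSite.sectMod K C.X₁ U) :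
    sm C.g U (sm C.f U x) = 0 :=
  CategoryTheory.congr_fun ((PresheafOfModules.evaluation _ (op U)).congr_map
    (congrArg SheafOfModules.Hom.val C.zero)) x

/-- An epimorphism of sheaves of modules is locally surjective. -/
theorem imageSieve_mem_of_epi [HasSheafify (QuotSh.J K S) AddCommGrpCat.{u + 1}]
    [(QuotSh.J K S).WEqualsLocallyBijective AddCommGrpCat.{u + 1}] {M N : BigSite.Mod K S} (g : M ⟶ N) [Epi g]
    (U : Over S) (s : BigSite.sectMod K N U) :
    Presheaf.imageSieve ((PresheafOfModules.toPresheaf _).map g.val) s ∈ QuotSh.J K S U := by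
  let L := PresheafOfModules.sheafification.{u + 1} (𝟙 (BigSite.ORing K S).obj)
  let adj := PresheafOfModules.sheafificationAdjunction.{u + 1} (𝟙 (BigSite.ORing K S).obj)
  let π := cokernel.π g.val
  have hz : L.map π = 0 := by
    have he : Epi (L.map g.val) := by
      have h := adj.counit.naturality g
      have : L.map g.val = adj.counit.app M ≫ g ≫ inv (adj.counit.app N) := by
        rw [← Category.assoc, IsIso.eq_comp_inv]; exact h
      rw [this]; infer_instance
    rw [← cancel_epi (L.map g.val), ← L.map_comp, cokernel.condition, Functor.map_zero, comp_zero]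
  have hQ : IsZero (L.obj (cokernel g.val)) :=
    (IsZero.iff_id_eq_zero _).2 (by rw [← cancel_epi (L.map π), Category.comp_id, comp_zero, hz])
  let θ := (PresheafOfModules.toPresheaf _).map (adj.unit.app (cokernel g.val))
  have : Presheaf.IsLocallyInjective (QuotSh.J K S) θ :=
    ((QuotSh.J K S).W_toSheafify (cokernel g.val).presheaf).isLocallyInjective
  let q : (cokernel g.val).presheaf.obj (op U) := π.app (op U) s
  have hθ : θ.app (op U) q = θ.app (op U) 0 := by
    have hsub : Subsingleton (BigSite.sectMod K (L.obj (cokernel g.val)) U) := by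
      have := (SheafOfModules.forget _ ⋙ PresheafOfModules.evaluation _ (op U)).map_isZero hQ
      exact ModuleCat.subsingleton_of_isZero this
    exact hsub.elim _ _
  refine (QuotSh.J K S).superset_covering ?_ (Presheaf.equalizerSieve_mem (QuotSh.J K S) θ q 0 hθ)
  intro V h hh
  obtain ⟨x, hx⟩ := AdeqLib.exists_of_cokernel_π_eq_zero g.val (op V) (rs N h s) (by
    refine ((CategoryTheory.congr_fun (((PresheafOfModules.toPresheaf _).map π).naturality h.op) s)).trans ?_
    exact hh.trans (map_zero ((cokernel g.val).presheaf.map h.op).hom))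
  exact ⟨x, hx⟩

end General

/-- The big fppf site. -/
local notation "Kf" => Scheme.fppfPrecoverage

variable {S : Scheme.{u}} {R : CommRingCat.{u}} (a : Spec R ⟶ S)

theorem exists_family_of_mem_fppf (T : Sieve (baseObj a)) (hT : T ∈ QuotSh.J Kf S (baseObj a)) :
    ∃ (κ : Type u) (_ : Finite κ) (R' : κ → CommRingCat.{u}) (_ : ∀ k, Algebra R (R' k)),
      Presieve.ofArrows (fun k => Spec (CommRingCat.of (R' k)))
          (fun k => Spec.map (CommRingCat.ofHom (algebraMap R (R' k)))) ∈ (Kf).coverings (Spec R) ∧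
      ∀ k, T (hom a (Adeq.Alg.unit R (R' k) (Adeq.algOf R R))) :=
  exists_family_of_mem (Q := @Flat ⊓ @LocallyOfFinitePresentation) a
    (fun f hf => have := hf.1; have := hf.2; f.isOpenMap)
    (fun _ _ _ hf => have := hf.1; have := hf.2; ⟨inferInstance, inferInstance⟩) T hT

theorem ffFam_of_fppf {ι : Type u} (R' : ι → Type u) [∀ i, CommRing (R' i)] [∀ i, Algebra R (R' i)]
    (hcov : Presieve.ofArrows (fun i => Spec (CommRingCat.of (R' i)))
      (fun i => Spec.map (CommRingCat.ofHom (algebraMap R (R' i)))) ∈ (Kf).coverings (Spec R)) :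
    FFFam (A := R) R' :=
  ffFam_of_cover (Q := @Flat ⊓ @LocallyOfFinitePresentation) (fun _ hf => hf.1) R' hcov

theorem sub_eq_sub_of_sub_eq_sub {G : Type*} [AddCommGroup G] {p q r s : G} (e : p - q = r - s) :
    q - s = p - r := by
  rw [← sub_eq_zero] at e ⊢
  rw [← neg_eq_zero, ← e]
  abel

theorem sm_surjective_baseObj (C : ShortComplex (BigSite.Mod Kf S)) (hC : C.ShortExact)
    (h₁ : Adeq.adequateMod Kf S C.X₁) : Function.Surjective (sm C.g (baseObj a)) := by
  have := hC.mono_f
  have := hC.epi_g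
  intro s
  obtain ⟨κ, hκ, R₀, alg, hcov, hmem⟩ := exists_family_of_mem_fppf a _ (imageSieve_mem_of_epi C.g _ s)
  let R' : κ → Type u := fun k => (R₀ k : Type u)
  let B₀ : Adeq.Alg R := Adeq.algOf R R
  have hmem' : ∀ k, ∃ x : BigSite.sectMod Kf C.X₂ (obj a (bcAlg R' k B₀)),
      sm C.g (obj a (bcAlg R' k B₀)) x = rs C.X₃ (hom a (Adeq.Alg.unit R (R' k) B₀)) s := fun k => hmem k
  choose y hy using hmem'
  let u₁ := fun i j : κ => hom a (Adeq.Alg.unit R (R' i) (bcAlg R' j B₀))
  let u₂ := fun i j : κ => hom a (bcMap R' i (Adeq.Alg.unit R (R' j) B₀))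
  have hsq : ∀ i j, u₁ i j ≫ hom a (Adeq.Alg.unit R (R' j) B₀) = u₂ i j ≫ hom a (Adeq.Alg.unit R (R' i) B₀) :=
    fun i j => Over.OverMorphism.ext (isPullback_double a R' i j B₀).w.symm
  have hd : ∀ i j, sm C.g _ (rs C.X₂ (u₁ i j) (y j) - rs C.X₂ (u₂ i j) (y i)) = 0 := fun i j => by
    rw [map_sub, sub_eq_zero, sm_rs, sm_rs]
    refine (congrArg _ (hy j)).trans (Eq.trans ?_ (congrArg _ (hy i)).symm)
    exact (rs_comp C.X₃ _ _ s).symm.trans
      ((congrArg (fun h => rs C.X₃ h s) (hsq i j)).trans (rs_comp C.X₃ _ _ s))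
  choose c hc using fun i j => exists_sm_eq C hC.exact _ _ (hd i j)
  obtain ⟨f, hf⟩ := exists_of_cocycle (R' := R') (ffFam_of_fppf R' hcov)
    (adequate_toMVF_fppf C.X₁ h₁ a) B₀ c (fun k i j => by
      let p₁ := hom a (bcMap R' k (Adeq.Alg.unit R (R' i) (bcAlg R' j B₀)))
      let p₂ := hom a (bcMap R' k (bcMap R' i (Adeq.Alg.unit R (R' j) B₀)))
      let p₃ := hom a (Adeq.Alg.unit R (R' k) (bcAlg R' i (bcAlg R' j B₀)))
      change rs C.X₁ p₁ (c k j) = rs C.X₁ p₂ (c k i) + rs C.X₁ p₃ (c i j)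
      have e₁ : p₁ ≫ u₁ k j = p₃ ≫ u₁ i j := by
        change (Adeq.specOver a).map _ ≫ (Adeq.specOver a).map _ =
          (Adeq.specOver a).map _ ≫ (Adeq.specOver a).map _
        rw [← Functor.map_comp, ← Functor.map_comp, ← op_comp, ← op_comp,
          AdeqLib.unit_naturality (A' := R' k)]
      have e₂ : p₂ ≫ u₁ k i = p₃ ≫ u₂ i j := by
        change (Adeq.specOver a).map _ ≫ (Adeq.specOver a).map _ =
          (Adeq.specOver a).map _ ≫ (Adeq.specOver a).map _
        rw [← Functor.map_comp, ← Functor.map_comp, ← op_comp, ← op_comp]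
        exact congrArg (fun q => (Adeq.specOver a).map (Quiver.Hom.op q))
          (AdeqLib.unit_naturality (A' := R' k) (bcMap R' i (Adeq.Alg.unit R (R' j) B₀))).symm
      have e₃ : p₁ ≫ u₂ k j = p₂ ≫ u₂ k i := by
        change (Adeq.specOver a).map _ ≫ (Adeq.specOver a).map _ =
          (Adeq.specOver a).map _ ≫ (Adeq.specOver a).map _
        rw [← Functor.map_comp, ← Functor.map_comp, ← op_comp, ← op_comp]
        change (Adeq.specOver a).map (Quiver.Hom.op ((Adeq.Alg.restr R (R' k)).map _ ≫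
          (Adeq.Alg.restr R (R' k)).map _)) = (Adeq.specOver a).map (Quiver.Hom.op
            ((Adeq.Alg.restr R (R' k)).map _ ≫ (Adeq.Alg.restr R (R' k)).map _))
        rw [← Functor.map_comp, ← Functor.map_comp, ← Functor.map_comp, ← Functor.map_comp,
          AdeqLib.unit_naturality (A' := R' i)]
      refine sm_injective C.f _ ?_
      rw [map_add, sm_rs, sm_rs, sm_rs, hc, hc, hc, map_sub, map_sub, map_sub, ← rs_comp, ← rs_comp,
        ← rs_comp, ← rs_comp, ← rs_comp, ← rs_comp, e₁, e₂, e₃]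
      abel)
  let z := fun i => y i - sm C.f _ (f i)
  obtain ⟨t, ht, -⟩ := exists_unique_glue C.X₂ (fun i => obj a (bcAlg R' i B₀))
    (fun i => hom a (Adeq.Alg.unit R (R' i) B₀)) (cover_baseChange a R' hcov B₀)
    (fun i j => obj a (bcAlg R' i (bcAlg R' j B₀))) u₂ u₁ (fun i j => isPullback_double a R' i j B₀) z
    (fun i j => by
      have e : sm C.f _ (c i j) = sm C.f _ (rs C.X₁ (u₁ i j) (f j) - rs C.X₁ (u₂ i j) (f i)) :=
        congrArg _ (hf i j)
      rw [hc, map_sub, sm_rs, sm_rs] at e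
      change rs C.X₂ (u₂ i j) (y i - sm C.f _ (f i)) = rs C.X₂ (u₁ i j) (y j - sm C.f _ (f j))
      rw [map_sub, map_sub]
      exact sub_eq_sub_of_sub_eq_sub e)
  refine ⟨t, sub_eq_zero.1 (eq_zero_of_cover C.X₃ (fun i => obj a (bcAlg R' i B₀))
    (fun i => hom a (Adeq.Alg.unit R (R' i) B₀)) (cover_baseChange a R' hcov B₀) _ fun i => ?_)⟩
  rw [map_sub, ← sm_rs, ht i]
  change sm C.g _ (y i - sm C.f _ (f i)) - _ = 0
  rw [map_sub, sm_comp_zero, sub_zero]
  exact sub_eq_zero.2 (hy i)

theorem sm_surjective_obj (C : ShortComplex (BigSite.Mod Kf S)) (hC : C.ShortExact)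
    (h₁ : Adeq.adequateMod Kf S C.X₁) : Function.Surjective (sm C.g (Over.mk a)) := fun s => by
  obtain ⟨x, hx⟩ := sm_surjective_baseObj a C hC h₁ (rs C.X₃ (baseIso a).inv s)
  exact ⟨rs C.X₂ (baseIso a).hom x, by rw [sm_rs, hx, ← rs_comp, Iso.hom_inv_id, rs_id]⟩

/-- An extension of adequate modules is adequate. -/
theorem adequateMod_extension (C : ShortComplex (BigSite.Mod Kf S)) (hC : C.ShortExact)
    (h₁ : Adeq.adequateMod Kf S C.X₁) (h₃ : Adeq.adequateMod Kf S C.X₃) :
    Adeq.adequateMod Kf S C.X₂ :=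
  have := hC.mono_f
  adequateMod_of_forall _ fun _ b =>
    AdeqLib.adequate_extension (adequate_toMVF_fppf C.X₁ h₁ b) (adequate_toMVF_fppf C.X₃ h₃ b)
      ((Adeq.toMVF Kf b).map C.f) ((Adeq.toMVF Kf b).map C.g)
      (fun B => sm_injective C.f (obj b B))
      (fun B => sm_surjective_obj _ C hC h₁)
      (fun B y => ⟨fun hy => exists_sm_eq C hC.exact (obj b B) y hy, fun ⟨x, hx⟩ => by
        subst hx; exact sm_comp_zero C (obj b B) x⟩)

end Groth.Agent.AdeqSite
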