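import Groth.Agent.AdeqSite.FFExact

/-!
# Parasitic adequate modules
-/

set_option backward.isDefEq.respectTransparency false

universe u

open CategoryTheory Limits AlgebraicGeometry Opposite TensorProduct

namespace Groth.Agent.AdeqSite

open Groth.Agent.AdeqLib

/-- The big fppf site. -/
local notation "Kf" => Scheme.fppfPrecoverage

variable {S : Scheme.{u}}

theorem subsingleton_sect_of_iso (M : BigSite.Mod Kf S) {U V : Over S} (e : V ≅ U)
    (h : Subsingleton (BigSite.sectMod Kf M U)) : Subsingleton (BigSite.sectMod Kf M V) :=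
  (rsEquiv M e).toEquiv.subsingleton_congr.1 h

/-- Vanishing of sections is Zariski local. -/
theorem subsingleton_sect_of_openCover (M : BigSite.Mod Kf S) (U : Over S) (𝒰 : U.left.OpenCover)
    (h : ∀ i, Subsingleton (BigSite.sectMod Kf M (Over.mk (𝒰.f i ≫ U.hom)))) :
    Subsingleton (BigSite.sectMod Kf M U) := by
  refine subsingleton_of_forall_eq 0 fun t => ?_
  exact eq_zero_of_cover M (fun i => Over.mk (𝒰.f i ≫ U.hom)) (fun i => Over.homMk (𝒰.f i) rfl)
    (Scheme.zariskiPrecoverage_le_fppfPrecoverage _ 𝒰.mem₀) t fun i => (h i).elim _ _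

theorem parasitic_of_affine (M : BigSite.Mod Kf S)
    (h : ∀ (R : CommRingCat.{u}) (a : Spec R ⟶ S), Flat a → Subsingleton (BigSite.sectMod Kf M (Over.mk a))) :
    Adeq.parasitic Kf S M := fun U hU =>
  subsingleton_sect_of_openCover M U U.left.affineCover fun i =>
    have := hU
    h _ (U.left.affineCover.f i ≫ U.hom) inferInstance

/-- The sections of an adequate module over a flat algebra vanish if those over the base do. -/
theorem subsingleton_sect_of_flat (M : BigSite.Mod Kf S) (hM : Adeq.adequateMod Kf S M)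
    {R B : CommRingCat.{u}} (a : Spec R ⟶ S) (g : Spec B ⟶ Spec R) [Flat g]
    (h : Subsingleton (BigSite.sectMod Kf M (Over.mk a))) :
    Subsingleton (BigSite.sectMod Kf M (Over.mk (g ≫ a))) := by
  obtain ⟨ψ, rfl⟩ : ∃ ψ, Spec.map ψ = g := ⟨Spec.preimage g, Spec.map_preimage g⟩
  let : Algebra R B := ψ.hom.toAlgebra
  have hflat : ψ.hom.Flat := Flat.SpecMap_iff.1 inferInstance
  let f : Adeq.algOf R R ⟶ Adeq.algOf R B := CommAlgCat.ofHom (Algebra.ofId R B)
  have hf : f.hom.toRingHom.Flat := hflat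
  have hbase : Subsingleton (BigSite.sectMod Kf M (baseObj a)) :=
    subsingleton_sect_of_iso M (baseIso a).symm h
  have := AdeqLib.isIso_bc (adequate_toMVF_fppf M hM a) f hf
  let _ : Algebra (R : Type u) (B : Type u) := f.hom.toRingHom.toAlgebra
  have hsub : Subsingleton ((B : Type u) ⊗[(R : Type u)]
      (((Adeq.toMVF Kf a).obj M).obj (Adeq.pt (Adeq.algOf R R)))) := by
    refine subsingleton_of_forall_eq 0 fun z => ?_
    induction z using TensorProduct.induction_on with
    | zero => rfl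
    | tmul b x => rw [show x = 0 from hbase.elim _ _, tmul_zero]
    | add x y hx hy => rw [hx, hy, add_zero]
  have : Subsingleton (((Adeq.toMVF Kf a).obj M).obj (Adeq.pt (Adeq.algOf R B))) :=
    (asIso (((Adeq.toMVF Kf a).obj M).bc f)).toLinearEquiv.toEquiv.subsingleton_congr.1 hsub
  exact this

theorem sect_exact_zero (C : ShortComplex (BigSite.Mod Kf S)) (hC : C.Exact)
    (h₁ : Adeq.adequateMod Kf S C.X₁) (h₂ : Adeq.adequateMod Kf S C.X₂) (h₃ : Adeq.adequateMod Kf S C.X₃)
    {R : CommRingCat.{u}} (a : Spec R ⟶ S) (s₁ : Subsingleton (BigSite.sectMod Kf C.X₁ (Over.mk a)))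
    (s₃ : Subsingleton (BigSite.sectMod Kf C.X₃ (Over.mk a))) :
    Subsingleton (BigSite.sectMod Kf C.X₂ (Over.mk a)) := by
  let l := kernel.lift C.g C.f C.zero
  have : Epi l := hC.epi_kernelLift
  let D : ShortComplex (BigSite.Mod Kf S) := ShortComplex.mk (kernel.ι l) l (kernel.condition l)
  have hD : D.ShortExact :=
    { exact := ShortComplex.exact_of_f_is_kernel D (kernelIsKernel l) }
  have hD₁ : Adeq.adequateMod Kf S D.X₁ := adequateMod_kernel l h₁ (adequateMod_kernel C.g h₂ h₃)
  let E : ShortComplex (BigSite.Mod Kf S) := ShortComplex.mk (kernel.ι C.g) C.g (kernel.condition C.g)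
  refine subsingleton_of_forall_eq 0 fun y => ?_
  obtain ⟨x, hx⟩ := exists_sm_eq E (ShortComplex.exact_of_f_is_kernel E (kernelIsKernel C.g))
    (Over.mk a) y (s₃.elim _ _)
  obtain ⟨w, hw⟩ := sm_surjective_obj a D hD hD₁ x
  rw [← hx, ← hw, show w = 0 from s₁.elim _ _, map_zero, map_zero]

theorem subsingleton_of_parasiticFor (M : BigSite.Mod Kf S) (h : Adeq.parasiticFor Kf S M) (U : S.Opens) :
    Subsingleton (BigSite.sectMod Kf M ((BigSite.zarIncl S).obj U)) := by
  let X : Bool → Scheme.{u} := fun b => bif b then U.toScheme else S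
  let f : ∀ b, X b ⟶ S := fun b => match b with
    | true => U.ι
    | false => 𝟙 S
  have hcov : Presieve.ofArrows X f ∈ (Scheme.fppfPrecoverage).coverings S := by
    change Presieve.ofArrows X f ∈ Scheme.precoverage _ S
    rw [Scheme.ofArrows_mem_precoverage_iff]
    refine ⟨fun x => ⟨false, x, rfl⟩, fun b => ?_⟩
    cases b
    · exact ⟨inferInstanceAs (Flat (𝟙 S)), inferInstanceAs (LocallyOfFinitePresentation (𝟙 S))⟩
    · exact ⟨inferInstanceAs (Flat U.ι), inferInstanceAs (LocallyOfFinitePresentation U.ι)⟩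
  refine subsingleton_sect_of_iso M ?_ (h hcov (f true) ⟨true⟩)
  exact Over.isoMk (Iso.refl _) (Category.id_comp _)

theorem parasitic_of_affineOpens (M : BigSite.Mod Kf S) (hM : Adeq.adequateMod Kf S M) {ι : Type u}
    (U : ι → S.Opens) (hU : ∀ i, IsAffineOpen (U i)) (hcov : (⨆ i, U i) = ⊤)
    (h : ∀ i, Subsingleton (BigSite.sectMod Kf M ((BigSite.zarIncl S).obj (U i)))) :
    Adeq.parasitic Kf S M := by
  refine parasitic_of_affine M fun R a ha => ?_
  let 𝒱 : S.OpenCover := S.openCoverOfIsOpenCover U hcov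
  refine subsingleton_sect_of_openCover M (Over.mk a) (𝒱.pullback₁ a) fun i => ?_
  refine subsingleton_sect_of_openCover M _ (pullback a (𝒱.f i)).affineCover fun j => ?_
  let g₀ : (pullback a (𝒱.f i)).affineCover.X j ⟶ (U i).toScheme :=
    (pullback a (𝒱.f i)).affineCover.f j ≫ pullback.snd a (𝒱.f i)
  have hg₀ : g₀ ≫ (U i).ι = (pullback a (𝒱.f i)).affineCover.f j ≫ pullback.fst a (𝒱.f i) ≫ a := by
    change (_ ≫ pullback.snd a (𝒱.f i)) ≫ 𝒱.f i = _
    rw [Category.assoc, pullback.condition]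
  have : Flat g₀ := by
    have := ha
    change Flat (_ ≫ pullback.snd a (𝒱.f i))
    infer_instance
  have : Flat (g₀ ≫ (hU i).isoSpec.hom) := inferInstance
  have hbase : Subsingleton (BigSite.sectMod Kf M (Over.mk ((hU i).isoSpec.inv ≫ (U i).ι))) := by
    refine subsingleton_sect_of_iso M ?_ (h i)
    exact Over.isoMk (hU i).isoSpec.symm rfl
  have hfin := subsingleton_sect_of_flat M hM ((hU i).isoSpec.inv ≫ (U i).ι) (g₀ ≫ (hU i).isoSpec.hom) hbase
  refine subsingleton_sect_of_iso M ?_ hfin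
  exact overCongr _ _ (by
    rw [Category.assoc, Iso.hom_inv_id_assoc, hg₀]
    rfl)

end Groth.Agent.AdeqSite
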