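import Groth.Agent.AdeqSite.Pull
import Groth.Agent.AdeqLib.FFFam

/-!
# Locally bijective maps from adequate presheaves are bijective on affines
-/

set_option backward.isDefEq.respectTransparency false

universe u w

open CategoryTheory Limits AlgebraicGeometry Opposite TensorProduct

namespace Groth.Agent.AdeqSite

open Groth.Agent.AdeqLib

theorem ffFam_of_cover {Q : MorphismProperty Scheme.{u}}
    [(Scheme.precoverage Q).IsStableUnderBaseChange]
    (hQ : ∀ {X Y : Scheme.{u}} (f : X ⟶ Y), Q f → Flat f)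
    {R : CommRingCat.{u}} {ι : Type u} (R' : ι → Type u) [∀ i, CommRing (R' i)] [∀ i, Algebra R (R' i)]
    (hcov : Presieve.ofArrows (fun i => Spec (CommRingCat.of (R' i)))
      (fun i => Spec.map (CommRingCat.ofHom (algebraMap R (R' i)))) ∈
        (Scheme.precoverage Q).coverings (Spec R)) :
    FFFam (A := R) R' := by
  intro B
  have h := cover_baseChange (K := Scheme.precoverage Q) (𝟙 (Spec R)) R' hcov B
  change _ ∈ Scheme.precoverage Q _ at h
  rw [Scheme.ofArrows_mem_precoverage_iff] at h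
  refine ⟨fun i => Flat.SpecMap_iff.1 (hQ _ (h.2 i)), fun p => ?_⟩
  obtain ⟨i, q, hq⟩ := h.1 p
  exact ⟨i, q, hq⟩

/-- A single faithfully flat algebra gives a jointly faithfully flat family. -/
theorem ffFam_punit {A : Type u} [CommRing A] (R' : Type u) [CommRing R'] [Algebra A R']
    [Module.FaithfullyFlat A R'] : FFFam (A := A) (fun _ : PUnit.{u + 1} => R') := by
  intro B
  have hf : RingHom.FaithfullyFlat (R := (B : Type u)) (S := R' ⊗[A] (B : Type u))
      (Algebra.TensorProduct.includeRight : (B : Type u) →ₐ[A] R' ⊗[A] (B : Type u)).toRingHom := by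
    have h1 : (algebraMap (B : Type u) ((B : Type u) ⊗[A] R')).FaithfullyFlat :=
      RingHom.faithfullyFlat_algebraMap_iff.2 inferInstance
    have h2 := RingHom.FaithfullyFlat.stableUnderComposition _
      (Algebra.TensorProduct.comm A (B : Type u) R').toRingEquiv.toRingHom h1
      (RingHom.FaithfullyFlat.of_bijective (Algebra.TensorProduct.comm A (B : Type u) R').bijective)
    convert h2 using 1
    ext b
    exact (Algebra.TensorProduct.comm_tmul A b (1 : R')).symm
  obtain ⟨h1, h2⟩ := RingHom.FaithfullyFlat.iff_flat_and_comap_surjective.1 hf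
  exact ⟨fun _ => h1, fun p => ⟨PUnit.unit, h2 p⟩⟩

variable {Q : MorphismProperty Scheme.{u}} [BigSite.OSh (Scheme.precoverage Q)]
  [(Scheme.precoverage Q).IsStableUnderBaseChange] [(Scheme.precoverage Q).IsStableUnderComposition]
  [Q.IsStableUnderBaseChange] [Q.ContainsIdentities] [Q.RespectsIso]
variable {S : Scheme.{u}} {R : CommRingCat.{u}} (a : Spec R ⟶ S)

/-- The base object `Spec R → S`. -/
noncomputable abbrev baseObj : Over S := obj a (Adeq.algOf R R)

omit [BigSite.OSh (Scheme.precoverage Q)] in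
theorem exists_family_of_mem
    (hopen : ∀ {X Y : Scheme.{u}} (f : X ⟶ Y), Q f → IsOpenMap f)
    (hres : ∀ {X Y Z : Scheme.{u}} (j : X ⟶ Y) [IsOpenImmersion j] (f : Y ⟶ Z), Q f → Q (j ≫ f))
    (T : Sieve (baseObj a)) (hT : T ∈ QuotSh.J (Scheme.precoverage Q) S (baseObj a)) :
    ∃ (κ : Type u) (_ : Finite κ) (R' : κ → CommRingCat.{u}) (_ : ∀ k, Algebra R (R' k)),
      Presieve.ofArrows (fun k => Spec (CommRingCat.of (R' k)))
          (fun k => Spec.map (CommRingCat.ofHom (algebraMap R (R' k)))) ∈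
        (Scheme.precoverage Q).coverings (Spec R) ∧
      ∀ k, T (hom a (Adeq.Alg.unit R (R' k) (Adeq.algOf R R))) := by
  rw [GrothendieckTopology.mem_over_iff] at hT
  obtain ⟨P₀, hP₀, hle⟩ := (Precoverage.mem_toGrothendieck_iff_of_isStableUnderComposition).1 hT
  obtain ⟨ι, X, f, rfl⟩ := P₀.exists_eq_ofArrows
  obtain ⟨κ, hκ, R', g, hg, hfac⟩ :=
    exists_finite_affine_refinement hopen hres f hP₀ (R := R) (𝟙 (Spec R))
  let alg : ∀ k, Algebra R (R' k) := fun k => (Spec.preimage (g k)).hom.toAlgebra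
  have e : ∀ k, Spec.map (CommRingCat.ofHom (algebraMap R (R' k))) = g k := fun k =>
    Spec.map_preimage (g k)
  refine ⟨κ, hκ, R', alg, ?_, fun k => ?_⟩
  · have : (fun k => Spec.map (CommRingCat.ofHom (algebraMap R (R' k)))) = g := funext e
    exact this ▸ hg
  · obtain ⟨i, h, hh⟩ := hfac k
    have hmemL : Sieve.overEquiv (baseObj a) T (hom a (Adeq.Alg.unit R (R' k) (Adeq.algOf R R))).left := by
      have hw : (hom a (Adeq.Alg.unit R (R' k) (Adeq.algOf R R))).left =
          (Spec.map (CommRingCat.ofHom (algebraMap (R' k) ((R' k : Type u) ⊗[(R : Type u)] (R : Type u)))) ≫ h) ≫ f i := by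
        have hp := (isPullback_SpecMap_of_isPushout _ _ _ _ (isPushout_unit (R' k) (Adeq.algOf R R))).w
        rw [Category.assoc, ← hh, Category.comp_id, ← e k, ← hp]
        change _ = _ ≫ Spec.map (CommRingCat.ofHom (RingHom.id R))
        rw [CommRingCat.ofHom_id, Spec.map_id, Category.comp_id]
        rfl
      rw [hw]
      exact (Sieve.overEquiv (baseObj a) T).downward_closed (hle _ _ ⟨i⟩) _
    rw [Sieve.overEquiv_iff] at hmemL
    let c : obj a (bcAlg (fun k => (R' k : Type u)) k (Adeq.algOf R R)) ⟶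
        Over.mk ((hom a (Adeq.Alg.unit R (R' k) (Adeq.algOf R R))).left ≫ (baseObj a).hom) :=
      Over.homMk (𝟙 _) ((Category.id_comp _).trans (Over.w _))
    have hc : c ≫ Over.homMk (hom a (Adeq.Alg.unit R (R' k) (Adeq.algOf R R))).left =
        hom a (Adeq.Alg.unit R (R' k) (Adeq.algOf R R)) :=
      Over.OverMorphism.ext (Category.id_comp _)
    exact hc ▸ T.downward_closed hmemL c

variable {P₀ : PresheafOfModules.{u + 1} (BigSite.ORing (Scheme.precoverage Q) S).obj}
  {M : BigSite.Mod (Scheme.precoverage Q) S} (φ : P₀ ⟶ M.val)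

/-- The map on underlying presheaves of abelian groups. -/
noncomputable abbrev abMap : P₀.presheaf ⟶ M.val.presheaf :=
  (PresheafOfModules.toPresheaf _).map φ

theorem injective_baseObj
    (hopen : ∀ {X Y : Scheme.{u}} (f : X ⟶ Y), Q f → IsOpenMap f)
    (hres : ∀ {X Y Z : Scheme.{u}} (j : X ⟶ Y) [IsOpenImmersion j] (f : Y ⟶ Z), Q f → Q (j ≫ f))
    (hflat : ∀ {X Y : Scheme.{u}} (f : X ⟶ Y), Q f → Flat f)
    (hP : Adeq.adequate R ((Adeq.toMVFPre (Scheme.precoverage Q) a).obj P₀))
    [Presheaf.IsLocallyInjective (QuotSh.J (Scheme.precoverage Q) S) (abMap φ)] :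
    Function.Injective ((abMap φ).app (op (baseObj a))) := by
  refine (injective_iff_map_eq_zero ((abMap φ).app (op (baseObj a))).hom).2 fun x hx => ?_
  obtain ⟨κ, hκ, R', alg, hcov, hmem⟩ := exists_family_of_mem a hopen hres _
    (Presheaf.equalizerSieve_mem (QuotSh.J (Scheme.precoverage Q) S) (abMap φ) x 0
      (hx.trans (map_zero ((abMap φ).app (op (baseObj a))).hom).symm))
  exact eq_zero_of_family hP _ (ffFam_of_cover hflat (fun k => (R' k : Type u)) hcov (Adeq.algOf R R)) x
    fun k => (hmem k).trans (map_zero (P₀.presheaf.map _).hom)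

/-- The base object is `Spec R → S`. -/
noncomputable def baseIso : Over.mk a ≅ baseObj a :=
  overCongr _ _ (by
    change a = Spec.map (CommRingCat.ofHom (RingHom.id R)) ≫ a
    rw [CommRingCat.ofHom_id, Spec.map_id, Category.id_comp])

theorem injective_obj
    (hopen : ∀ {X Y : Scheme.{u}} (f : X ⟶ Y), Q f → IsOpenMap f)
    (hres : ∀ {X Y Z : Scheme.{u}} (j : X ⟶ Y) [IsOpenImmersion j] (f : Y ⟶ Z), Q f → Q (j ≫ f))
    (hflat : ∀ {X Y : Scheme.{u}} (f : X ⟶ Y), Q f → Flat f)
    (hP : Adeq.adequate R ((Adeq.toMVFPre (Scheme.precoverage Q) a).obj P₀))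
    [Presheaf.IsLocallyInjective (QuotSh.J (Scheme.precoverage Q) S) (abMap φ)] :
    Function.Injective ((abMap φ).app (op (Over.mk a))) := by
  intro x y hxy
  refine ((P₀.presheaf.mapIso (baseIso a).op.symm).addCommGroupIsoToAddEquiv).injective
    (injective_baseObj a φ hopen hres hflat hP ?_)
  have n := fun z => CategoryTheory.congr_fun ((abMap φ).naturality (baseIso a).inv.op) z
  exact (n x).trans ((congrArg (M.val.presheaf.map (baseIso a).inv.op) hxy).trans (n y).symm)

theorem surjective_baseObj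
    (hopen : ∀ {X Y : Scheme.{u}} (f : X ⟶ Y), Q f → IsOpenMap f)
    (hres : ∀ {X Y Z : Scheme.{u}} (j : X ⟶ Y) [IsOpenImmersion j] (f : Y ⟶ Z), Q f → Q (j ≫ f))
    (hflat : ∀ {X Y : Scheme.{u}} (f : X ⟶ Y), Q f → Flat f)
    (hP : ∀ (B : CommRingCat.{u}) (b : Spec B ⟶ S),
      Adeq.adequate B ((Adeq.toMVFPre (Scheme.precoverage Q) b).obj P₀))
    [Presheaf.IsLocallyInjective (QuotSh.J (Scheme.precoverage Q) S) (abMap φ)]
    [Presheaf.IsLocallySurjective (QuotSh.J (Scheme.precoverage Q) S) (abMap φ)] :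
    Function.Surjective ((abMap φ).app (op (baseObj a))) := by
  intro s
  obtain ⟨κ, hκ, R', alg, hcov, hmem⟩ := exists_family_of_mem a hopen hres _
    (Presheaf.imageSieve_mem (QuotSh.J (Scheme.precoverage Q) S) (abMap φ) s)
  choose y hy using hmem
  let R'' : κ → Type u := fun k => (R' k : Type u)
  have hR := ffFam_of_cover hflat R'' hcov
  obtain ⟨x, hx⟩ := exists_glue_family hR (hP R a) (Adeq.algOf R R) y (fun i j => by
    refine injective_obj (R := CommRingCat.of (bcAlg R'' i (bcAlg R'' j (Adeq.algOf R R))))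
      (Spec.map (CommRingCat.ofHom (algebraMap R (bcAlg R'' i (bcAlg R'' j (Adeq.algOf R R))))) ≫ a)
      φ hopen hres hflat (hP _ _) ?_
    have n := fun {U V : Over S} (g : V ⟶ U) z => CategoryTheory.congr_fun ((abMap φ).naturality g.op) z
    refine (n (hom a (bcMap R'' i (Adeq.Alg.unit R (R'' j) (Adeq.algOf R R)))) (y i)).trans
      (Eq.trans ?_ (n (hom a (Adeq.Alg.unit R (R'' i) (bcAlg R'' j (Adeq.algOf R R)))) (y j)).symm)
    refine (congrArg _ (hy i)).trans (Eq.trans ?_ (congrArg _ (hy j)).symm)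
    refine (rs_comp M _ _ s).symm.trans (Eq.trans ?_ (rs_comp M _ _ s))
    exact congrArg (fun g => rs M g s) (Over.OverMorphism.ext (isPullback_double a R'' i j _).w))
  refine ⟨x, sub_eq_zero.1 (eq_zero_of_cover M (fun k => obj a (bcAlg R'' k (Adeq.algOf R R)))
    (fun k => hom a (Adeq.Alg.unit R (R'' k) (Adeq.algOf R R))) (cover_baseChange a R'' hcov _) _ fun k => ?_)⟩
  rw [map_sub]
  exact sub_eq_zero.2 ((CategoryTheory.congr_fun ((abMap φ).naturality
    (hom a (Adeq.Alg.unit R (R'' k) (Adeq.algOf R R))).op) x).symm.trans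
      ((congrArg _ (hx k)).trans (hy k)))

theorem bijective_obj
    (hopen : ∀ {X Y : Scheme.{u}} (f : X ⟶ Y), Q f → IsOpenMap f)
    (hres : ∀ {X Y Z : Scheme.{u}} (j : X ⟶ Y) [IsOpenImmersion j] (f : Y ⟶ Z), Q f → Q (j ≫ f))
    (hflat : ∀ {X Y : Scheme.{u}} (f : X ⟶ Y), Q f → Flat f)
    (hP : ∀ (B : CommRingCat.{u}) (b : Spec B ⟶ S),
      Adeq.adequate B ((Adeq.toMVFPre (Scheme.precoverage Q) b).obj P₀))
    [Presheaf.IsLocallyInjective (QuotSh.J (Scheme.precoverage Q) S) (abMap φ)]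
    [Presheaf.IsLocallySurjective (QuotSh.J (Scheme.precoverage Q) S) (abMap φ)] :
    Function.Bijective ((abMap φ).app (op (Over.mk a))) := by
  refine ⟨injective_obj a φ hopen hres hflat (hP R a), fun s => ?_⟩
  obtain ⟨x, hx⟩ := surjective_baseObj a φ hopen hres hflat hP (rs M (baseIso a).inv s)
  refine ⟨P₀.presheaf.map (baseIso a).hom.op x, ?_⟩
  refine (CategoryTheory.congr_fun ((abMap φ).naturality (baseIso a).hom.op) x).trans ?_
  refine (congrArg _ hx).trans ((rs_comp M _ _ s).symm.trans ?_)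
  rw [Iso.hom_inv_id, rs_id]

/-- The functor on algebras of `P₀` is that of `M`. -/
theorem isIso_toMVFPre_map
    (hopen : ∀ {X Y : Scheme.{u}} (f : X ⟶ Y), Q f → IsOpenMap f)
    (hres : ∀ {X Y Z : Scheme.{u}} (j : X ⟶ Y) [IsOpenImmersion j] (f : Y ⟶ Z), Q f → Q (j ≫ f))
    (hflat : ∀ {X Y : Scheme.{u}} (f : X ⟶ Y), Q f → Flat f)
    (hP : ∀ (B : CommRingCat.{u}) (b : Spec B ⟶ S),
      Adeq.adequate B ((Adeq.toMVFPre (Scheme.precoverage Q) b).obj P₀))
    [Presheaf.IsLocallyInjective (QuotSh.J (Scheme.precoverage Q) S) (abMap φ)]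
    [Presheaf.IsLocallySurjective (QuotSh.J (Scheme.precoverage Q) S) (abMap φ)] :
    IsIso ((Adeq.toMVFPre (Scheme.precoverage Q) a).map φ) := by
  have hb := fun X : (Adeq.Alg R)ᵒᵖᵒᵖ => bijective_obj
    (Spec.map (CommRingCat.ofHom (algebraMap R X.unop.unop)) ≫ a) φ hopen hres hflat hP
  have : Mono ((Adeq.toMVFPre (Scheme.precoverage Q) a).map φ) :=
    PresheafOfModules.mono_of_injective fun X => (hb X).1
  have : Epi ((Adeq.toMVFPre (Scheme.precoverage Q) a).map φ) :=
    PresheafOfModules.epi_of_surjective fun X => (hb X).2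
  exact isIso_of_mono_of_epi _

end Groth.Agent.AdeqSite
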