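import Groth.Agent.AdeqSite.Affine
import Groth.Agent.AdeqLib.Closure
import Mathlib.Algebra.Category.ModuleCat.Sheaf.Colimits

/-!
# Sheafification, kernels and colimits of adequate modules on the big fppf site
-/

set_option backward.isDefEq.respectTransparency false

universe u w w'

open CategoryTheory Limits AlgebraicGeometry Opposite TensorProduct

namespace Groth.Agent.AdeqSite

open Groth.Agent.AdeqLib

section Preserves

theorem reflectsIso_toPresheaf {A : Type u} [CommRing A] :
    (PresheafOfModules.toPresheaf.{u + 1} (Adeq.ringOf A)).ReflectsIsomorphisms :=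
  ⟨fun {F G} f _ => by
    have hb : ∀ X, Function.Bijective (f.app X) := fun X =>
      ConcreteCategory.bijective_of_isIso (((PresheafOfModules.toPresheaf _).map f).app X)
    have : Mono f := PresheafOfModules.mono_of_injective fun X => (hb X).1
    have : Epi f := PresheafOfModules.epi_of_surjective fun X => (hb X).2
    exact isIso_of_mono_of_epi f⟩

variable {K : Precoverage Scheme.{u}} [BigSite.OSh K] {S : Scheme.{u}} {R : CommRingCat.{u}} (a : Spec R ⟶ S)

instance toMVFPre_preservesColimitsOfShape {J : Type w} [Category.{w'} J]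
    [HasColimitsOfShape J AddCommGrpCat.{u + 1}] :
    PreservesColimitsOfShape J (Adeq.toMVFPre K a) := by
  have : PreservesColimitsOfShape J (Adeq.toMVFPre K a ⋙ PresheafOfModules.toPresheaf _) :=
    inferInstanceAs (PreservesColimitsOfShape J
      (PresheafOfModules.toPresheaf (BigSite.ORing K S).obj ⋙
        (Functor.whiskeringLeft _ _ _).obj (Adeq.specOver a).op))
  have : (PresheafOfModules.toPresheaf (Adeq.ringOf R)).ReflectsIsomorphisms := reflectsIso_toPresheaf
  have : ReflectsColimitsOfShape J (PresheafOfModules.toPresheaf.{u + 1} (Adeq.ringOf R)) :=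
    reflectsColimitsOfShape_of_reflectsIsomorphisms
  exact preservesColimitsOfShape_of_reflects_of_preserves (Adeq.toMVFPre K a)
    (PresheafOfModules.toPresheaf _)

instance toMVFPre_preservesLimitsOfShape {J : Type} [SmallCategory J] [FinCategory J] :
    PreservesLimitsOfShape J (Adeq.toMVFPre K a) := by
  have : PreservesLimitsOfShape J (Adeq.toMVFPre K a ⋙ PresheafOfModules.toPresheaf _) :=
    inferInstanceAs (PreservesLimitsOfShape J
      (PresheafOfModules.toPresheaf (BigSite.ORing K S).obj ⋙
        (Functor.whiskeringLeft _ _ _).obj (Adeq.specOver a).op))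
  have : (PresheafOfModules.toPresheaf (Adeq.ringOf R)).ReflectsIsomorphisms := reflectsIso_toPresheaf
  have : ReflectsLimitsOfShape J (PresheafOfModules.toPresheaf.{u + 1} (Adeq.ringOf R)) :=
    reflectsLimitsOfShape_of_reflectsIsomorphisms
  exact preservesLimitsOfShape_of_reflects_of_preserves (Adeq.toMVFPre K a)
    (PresheafOfModules.toPresheaf _)

instance toMVF_preservesKernel {M N : BigSite.Mod K S} (φ : M ⟶ N) :
    PreservesLimit (parallelPair φ 0) (Adeq.toMVF K a) :=
  inferInstanceAs (PreservesLimit (parallelPair φ 0) (SheafOfModules.forget _ ⋙ Adeq.toMVFPre K a))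

end Preserves

/-- The big fppf site. -/
local notation "Kf" => Scheme.fppfPrecoverage

variable {S : Scheme.{u}}

instance : MorphismProperty.ContainsIdentities (@Flat.{u} ⊓ @LocallyOfFinitePresentation.{u}) :=
  ⟨fun _ => ⟨inferInstance, inferInstance⟩⟩

theorem isIso_toMVFPre_map_fppf {P : PresheafOfModules.{u + 1} (BigSite.ORing Kf S).obj}
    {M : BigSite.Mod Kf S} (φ : P ⟶ M.val)
    [Presheaf.IsLocallyInjective (QuotSh.J Kf S) ((PresheafOfModules.toPresheaf _).map φ)]
    [Presheaf.IsLocallySurjective (QuotSh.J Kf S) ((PresheafOfModules.toPresheaf _).map φ)]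
    (hP : ∀ (B : CommRingCat.{u}) (b : Spec B ⟶ S), Adeq.adequate B ((Adeq.toMVFPre Kf b).obj P))
    {R : CommRingCat.{u}} (a : Spec R ⟶ S) : IsIso ((Adeq.toMVFPre Kf a).map φ) :=
  have : Presheaf.IsLocallyInjective
      (QuotSh.J (Scheme.precoverage (@Flat.{u} ⊓ @LocallyOfFinitePresentation.{u})) S) (abMap φ) :=
    ‹Presheaf.IsLocallyInjective (QuotSh.J Kf S) ((PresheafOfModules.toPresheaf _).map φ)›
  have : Presheaf.IsLocallySurjective
      (QuotSh.J (Scheme.precoverage (@Flat.{u} ⊓ @LocallyOfFinitePresentation.{u})) S) (abMap φ) :=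
    ‹Presheaf.IsLocallySurjective (QuotSh.J Kf S) ((PresheafOfModules.toPresheaf _).map φ)›
  isIso_toMVFPre_map (Q := @Flat ⊓ @LocallyOfFinitePresentation) a φ
    (fun f hf => have := hf.1; have := hf.2; f.isOpenMap)
    (fun _ _ _ hf => have := hf.1; have := hf.2; ⟨inferInstance, inferInstance⟩)
    (fun _ hf => hf.1) hP

theorem adequateMod_of_forall (M : BigSite.Mod Kf S)
    (h : ∀ (R : CommRingCat.{u}) (a : Spec R ⟶ S), Adeq.adequate R ((Adeq.toMVF Kf a).obj M)) :
    Adeq.adequateMod Kf S M :=
  ⟨_, fun _ : S.affineCover.I₀ => _, S.affineCover.f,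
    Scheme.zariskiPrecoverage_le_fppfPrecoverage _ S.affineCover.mem₀, fun _ => h _ _⟩

/-- The unit of sheafification of presheaves of modules. -/
noncomputable def sheafUnit (P : PresheafOfModules.{u + 1} (BigSite.ORing Kf S).obj) :
    P ⟶ ((PresheafOfModules.sheafification (𝟙 (BigSite.ORing Kf S).obj)).obj P).val :=
  (PresheafOfModules.sheafificationAdjunction (𝟙 (BigSite.ORing Kf S).obj)).unit.app P

theorem toPresheaf_sheafUnit (P : PresheafOfModules.{u + 1} (BigSite.ORing Kf S).obj) :
    (PresheafOfModules.toPresheaf _).map (sheafUnit P) = toSheafify (QuotSh.J Kf S) P.presheaf :=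
  PresheafOfModules.toPresheaf_map_sheafificationAdjunction_unit_app _ P

theorem adequate_sheafify {P : PresheafOfModules.{u + 1} (BigSite.ORing Kf S).obj}
    (hP : ∀ (B : CommRingCat.{u}) (b : Spec B ⟶ S), Adeq.adequate B ((Adeq.toMVFPre Kf b).obj P))
    (R : CommRingCat.{u}) (a : Spec R ⟶ S) :
    Adeq.adequate R ((Adeq.toMVF Kf a).obj
      ((PresheafOfModules.sheafification (𝟙 (BigSite.ORing Kf S).obj)).obj P)) := by
  have h1 := ((QuotSh.J Kf S).W_toSheafify P.presheaf).isLocallyInjective
  have h2 := ((QuotSh.J Kf S).W_toSheafify P.presheaf).isLocallySurjective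
  rw [← toPresheaf_sheafUnit] at h1 h2
  have := isIso_toMVFPre_map_fppf (sheafUnit P) hP a
  exact AdeqLib.adequate_of_iso (asIso ((Adeq.toMVFPre Kf a).map (sheafUnit P))) (hP R a)

/-- The sheafification of a presheaf adequate on affines is adequate. -/
theorem adequateMod_sheafify {P : PresheafOfModules.{u + 1} (BigSite.ORing Kf S).obj}
    (hP : ∀ (B : CommRingCat.{u}) (b : Spec B ⟶ S), Adeq.adequate B ((Adeq.toMVFPre Kf b).obj P)) :
    Adeq.adequateMod Kf S ((PresheafOfModules.sheafification (𝟙 (BigSite.ORing Kf S).obj)).obj P) :=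
  adequateMod_of_forall _ (adequate_sheafify hP)

/-- Colimits of adequate modules are adequate. -/
theorem adequateMod_colimit {J : Type (u + 1)} [SmallCategory J] (D : J ⥤ BigSite.Mod Kf S)
    (hD : ∀ j, Adeq.adequateMod Kf S (D.obj j)) : Adeq.adequateMod Kf S (colimit D) := by
  let L := PresheafOfModules.sheafification.{u + 1} (𝟙 (BigSite.ORing Kf S).obj)
  let D' := D ⋙ SheafOfModules.forget (BigSite.ORing Kf S)
  let e : D ≅ D' ⋙ L := Functor.isoWhiskerLeft D
    (asIso (PresheafOfModules.sheafificationAdjunction (𝟙 (BigSite.ORing Kf S).obj)).counit).symm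
  have hP : ∀ (B : CommRingCat.{u}) (b : Spec B ⟶ S),
      Adeq.adequate B ((Adeq.toMVFPre Kf b).obj (colimit D')) := fun B b =>
    AdeqLib.adequate_of_iso (preservesColimitIso (Adeq.toMVFPre Kf b) D').symm
      (AdeqLib.adequate_colimit _ fun j => adequate_toMVF_fppf (D.obj j) (hD j) b)
  exact (Adeq.adequateMod Kf S).prop_of_iso
    (preservesColimitIso L D' ≪≫ (HasColimit.isoOfNatIso e).symm) (adequateMod_sheafify hP)

/-- Cokernels of maps of adequate modules are adequate. -/
theorem adequateMod_cokernel {M N : BigSite.Mod Kf S} (φ : M ⟶ N)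
    (hM : Adeq.adequateMod Kf S M) (hN : Adeq.adequateMod Kf S N) : Adeq.adequateMod Kf S (cokernel φ) := by
  let L := PresheafOfModules.sheafification.{u + 1} (𝟙 (BigSite.ORing Kf S).obj)
  let c := asIso (PresheafOfModules.sheafificationAdjunction (𝟙 (BigSite.ORing Kf S).obj)).counit
  have hP : ∀ (B : CommRingCat.{u}) (b : Spec B ⟶ S),
      Adeq.adequate B ((Adeq.toMVFPre Kf b).obj (cokernel φ.val)) := fun B b =>
    AdeqLib.adequate_of_iso (PreservesCokernel.iso (Adeq.toMVFPre Kf b) φ.val).symm
      (AdeqLib.adequate_cokernel (AdeqLib.covered_of_adequate (adequate_toMVF_fppf M hM b))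
        (adequate_toMVF_fppf N hN b) _)
  exact (Adeq.adequateMod Kf S).prop_of_iso
    (PreservesCokernel.iso L φ.val ≪≫ cokernel.mapIso (L.map φ.val) φ (c.app M) (c.app N) (c.hom.naturality φ))
    (adequateMod_sheafify hP)

/-- Kernels of maps of adequate modules are adequate. -/
theorem adequateMod_kernel {M N : BigSite.Mod Kf S} (φ : M ⟶ N)
    (hM : Adeq.adequateMod Kf S M) (hN : Adeq.adequateMod Kf S N) : Adeq.adequateMod Kf S (kernel φ) :=
  adequateMod_of_forall _ fun _ a =>
    AdeqLib.adequate_of_iso (PreservesKernel.iso (Adeq.toMVF Kf a) φ).symm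
      (AdeqLib.adequate_kernel (adequate_toMVF_fppf M hM a) (adequate_toMVF_fppf N hN a) _)

end Groth.Agent.AdeqSite
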