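import Mathlib.CategoryTheory.Sites.Over
import Mathlib.CategoryTheory.Sites.IsSheafFor
import Mathlib.CategoryTheory.Yoneda

/-!
# A presheaf on `Over S` as a presheaf with a map to `S`
-/

universe w v u

open CategoryTheory Opposite

namespace Groth.Agent.AdeqSite

variable {C : Type u} [Category.{v} C] {S : C} (P : (Over S)ᵒᵖ ⥤ Type w)

/-- The values of `sigmaPre`. -/
def SigmaVal (T : C) : Type (max w v) := Σ g : T ⟶ S, P.obj (op (Over.mk g))

variable {P}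

theorem sigmaVal_ext {T : C} {g g' : T ⟶ S} (e : Over.mk g' ⟶ Over.mk g) (he : e.left = 𝟙 T)
    (x : P.obj (op (Over.mk g))) :
    (⟨g', P.map e.op x⟩ : SigmaVal P T) = ⟨g, x⟩ := by
  obtain rfl : g = g' := by
    have h := Over.w e
    rw [he] at h
    exact (Category.id_comp g).symm.trans h
  obtain rfl : e = 𝟙 (Over.mk g) := Over.OverMorphism.ext he
  simp

theorem map_map_of_left {U V W : Over S} (f : W ⟶ V) (g : V ⟶ U) (h : W ⟶ U) (e : f.left ≫ g.left = h.left)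
    (x : P.obj (op U)) : P.map f.op (P.map g.op x) = P.map h.op x := by
  obtain rfl : f ≫ g = h := Over.OverMorphism.ext e
  exact (CategoryTheory.congr_fun (P.map_comp g.op f.op) x).symm

variable (P)

/-- The presheaf `T ↦ Σ (g : T → S), P(T/S)`. -/
def sigmaPre : Cᵒᵖ ⥤ Type (max w v) where
  obj T := SigmaVal P T.unop
  map {T T'} f := TypeCat.ofHom fun p =>
    (⟨f.unop ≫ p.1, P.map (Over.homMk f.unop rfl : Over.mk (f.unop ≫ p.1) ⟶ Over.mk p.1).op p.2⟩ :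
      SigmaVal P T'.unop)
  map_id T := by
    refine ConcreteCategory.hom_ext _ _ fun p => ?_
    exact sigmaVal_ext (Over.homMk (𝟙 T.unop) rfl : Over.mk (𝟙 T.unop ≫ p.1) ⟶ Over.mk p.1) rfl p.2
  map_comp {T T' T''} f g := by
    refine ConcreteCategory.hom_ext _ _ fun p => ?_
    refine Eq.trans ?_ (sigmaVal_ext (Over.homMk (𝟙 T''.unop) (by simp) :
      Over.mk ((f ≫ g).unop ≫ p.1) ⟶ Over.mk (g.unop ≫ f.unop ≫ p.1)) rfl _)
    refine Sigma.ext rfl (heq_of_eq ?_)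
    change P.map _ p.2 = P.map _ (P.map _ (P.map _ p.2))
    refine Eq.symm ((congrArg _ (map_map_of_left (Over.homMk g.unop rfl : Over.mk (g.unop ≫ f.unop ≫ p.1) ⟶
      Over.mk (f.unop ≫ p.1)) _ (Over.homMk (g.unop ≫ f.unop) (by simp) : Over.mk (g.unop ≫ f.unop ≫ p.1) ⟶
      Over.mk p.1) rfl p.2)).trans ?_)
    exact map_map_of_left _ _ _ (by simp) _

variable {P}

theorem sigmaPre_map {T T' : C} (f : T' ⟶ T) (g : T ⟶ S) (x : P.obj (op (Over.mk g))) :
    (sigmaPre P).map f.op ⟨g, x⟩ = (⟨f ≫ g, P.map (Over.homMk f rfl : Over.mk (f ≫ g) ⟶ Over.mk g).op x⟩ :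
      SigmaVal P T') := rfl

theorem sigmaVal_snd_eq {T : C} {g : T ⟶ S} {x y : P.obj (op (Over.mk g))}
    (h : (⟨g, x⟩ : SigmaVal P T) = ⟨g, y⟩) : x = y :=
  eq_of_heq (Sigma.ext_iff.1 h).2

/-- `sigmaPre P` satisfies descent for a family if maps to `S` and `P` do. -/
theorem isSheafFor_sigmaPre {T : C} {ι : Type*} {X : ι → C} (π : ∀ i, X i ⟶ T)
    (hS : Presieve.IsSheafFor (yoneda.obj S) (Presieve.ofArrows X π))
    (hP : ∀ g : T ⟶ S, Presieve.IsSheafFor P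
      (Presieve.ofArrows (fun i => Over.mk (π i ≫ g)) (fun i => (Over.homMk (π i) rfl : Over.mk (π i ≫ g) ⟶ Over.mk g)))) :
    Presieve.IsSheafFor (sigmaPre P) (Presieve.ofArrows X π) := by
  rw [Presieve.isSheafFor_arrows_iff]
  intro x hx
  obtain ⟨g, hg, hg_unique⟩ := (Presieve.isSheafFor_arrows_iff _ _).1 hS (fun i => (x i).1)
    (fun i j Z gi gj h => congrArg Sigma.fst (hx i j Z gi gj h))
  have hxg : ∀ i, ∃ y : P.obj (op (Over.mk (π i ≫ g))), (⟨π i ≫ g, y⟩ : SigmaVal P (X i)) = x i := fun i => by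
    have e : π i ≫ g = (x i).1 := hg i
    exact ⟨_, sigmaVal_ext (Over.homMk (𝟙 (X i)) (by simp [e]) : Over.mk (π i ≫ g) ⟶ Over.mk (x i).1) rfl _⟩
  choose y hy using hxg
  obtain ⟨t, ht, ht_unique⟩ := (Presieve.isSheafFor_arrows_iff _ _).1 (hP g) y (fun i j Z gi gj h => by
    have h' := hx i j Z.left gi.left gj.left (congrArg CommaMorphism.left h)
    rw [← hy i, ← hy j, sigmaPre_map, sigmaPre_map] at h'
    have e1 := sigmaVal_ext (Over.homMk (𝟙 Z.left) (by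
      simpa using (Over.w gi).symm) : Over.mk (gi.left ≫ π i ≫ g) ⟶ Over.mk Z.hom) rfl (P.map gi.op (y i))
    have e2 := sigmaVal_ext (Over.homMk (𝟙 Z.left) (by
      simpa using (Over.w gj).symm) : Over.mk (gj.left ≫ π j ≫ g) ⟶ Over.mk Z.hom) rfl (P.map gj.op (y j))
    refine sigmaVal_snd_eq (e1.symm.trans ?_ |>.trans e2)
    refine Eq.trans ?_ (h'.trans ?_)
    · exact Sigma.ext rfl (heq_of_eq (map_map_of_left _ _ _ (by simp) _))
    · exact Sigma.ext rfl (heq_of_eq (map_map_of_left _ _ _ (by simp) _).symm))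
  refine ⟨⟨g, t⟩, fun i => ?_, ?_⟩
  · rw [sigmaPre_map, ← hy i, ← ht i]
  · rintro ⟨g', t'⟩ h'
    obtain rfl : g' = g := hg_unique g' fun i => congrArg Sigma.fst (h' i)
    rw [ht_unique t' fun i => sigmaVal_snd_eq ((h' i).trans (hy i).symm)]

theorem left_mem {U V : Over S} (R : Sieve U) (k : V ⟶ U) (hk : R k) : Sieve.overEquiv U R k.left := by
  rw [Sieve.overEquiv_iff]
  have e : (Over.homMk k.left : Over.mk (k.left ≫ U.hom) ⟶ U) =
      (Over.homMk (𝟙 V.left) (by simp) : Over.mk (k.left ≫ U.hom) ⟶ V) ≫ k := by ext; simp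
  rw [e]
  exact R.downward_closed hk _

/-- Descent for `sigmaPre P` gives descent for `P`. -/
theorem isSheafFor_of_sigmaPre {U : Over S} (R : Sieve U)
    (hS : Presieve.IsSeparatedFor (yoneda.obj S) (Sieve.overEquiv U R).arrows)
    (h : Presieve.IsSheafFor (sigmaPre P) (Sieve.overEquiv U R).arrows) :
    Presieve.IsSheafFor P R.arrows := by
  intro x hx
  let z : ∀ ⦃T : C⦄ (f : T ⟶ U.left), Sieve.overEquiv U R f → SigmaVal P T := fun T f hf =>
    ⟨f ≫ U.hom, x (Over.homMk f) ((Sieve.overEquiv_iff R f).1 hf)⟩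
  have hz : ∀ {V : Over S} (k : V ⟶ U) (hk : R k),
      (⟨V.hom, x k hk⟩ : SigmaVal P V.left) = z k.left ((Sieve.overEquiv_iff R k.left).2 (by
        have e : (Over.homMk k.left : Over.mk (k.left ≫ U.hom) ⟶ U) =
            (Over.homMk (𝟙 V.left) (by simp) : Over.mk (k.left ≫ U.hom) ⟶ V) ≫ k := by ext; simp
        rw [e]; exact R.downward_closed hk _)) := fun {V} k hk => by
    let e : Over.mk (k.left ≫ U.hom) ⟶ V := Over.homMk (𝟙 V.left) (by simp)
    have hc : x (Over.homMk k.left : Over.mk (k.left ≫ U.hom) ⟶ U) (by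
        have : (Over.homMk k.left : Over.mk (k.left ≫ U.hom) ⟶ U) = e ≫ k := by ext; simp [e]
        rw [this]; exact R.downward_closed hk _) = P.map e.op (x k hk) := by
      have := hx (𝟙 _) e (f₁ := Over.homMk k.left) (f₂ := k) (by
        have : (Over.homMk k.left : Over.mk (k.left ≫ U.hom) ⟶ U) = e ≫ k := by ext; simp [e]
        rw [this]; exact R.downward_closed hk _) hk (by ext; simp [e])
      simpa using this
    refine (sigmaVal_ext (g := V.hom) (e : Over.mk (k.left ≫ U.hom) ⟶ Over.mk V.hom) rfl (x k hk)).symm.trans ?_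
    exact Sigma.ext rfl (heq_of_eq hc.symm)
  obtain ⟨⟨g, t⟩, ht, ht_unique⟩ := h (fun T f hf => z f hf) (fun T₁ T₂ Z g₁ g₂ f₁ f₂ h₁ h₂ e => by
    change (sigmaPre P).map g₁.op (z f₁ h₁) = (sigmaPre P).map g₂.op (z f₂ h₂)
    rw [sigmaPre_map, sigmaPre_map]
    let a₁ : Over.mk (g₁ ≫ f₁ ≫ U.hom) ⟶ Over.mk (f₁ ≫ U.hom) := Over.homMk g₁ rfl
    let a₂ : Over.mk (g₁ ≫ f₁ ≫ U.hom) ⟶ Over.mk (f₂ ≫ U.hom) := Over.homMk g₂ (by
      change g₂ ≫ f₂ ≫ U.hom = g₁ ≫ f₁ ≫ U.hom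
      rw [← Category.assoc, ← e, Category.assoc])
    have hc := hx a₁ a₂ ((Sieve.overEquiv_iff R f₁).1 h₁) ((Sieve.overEquiv_iff R f₂).1 h₂)
      (by ext; exact e)
    let b : Over.mk (g₁ ≫ f₁ ≫ U.hom) ⟶ Over.mk (g₂ ≫ f₂ ≫ U.hom) := Over.homMk (𝟙 _) (by
      change 𝟙 _ ≫ g₂ ≫ f₂ ≫ U.hom = g₁ ≫ f₁ ≫ U.hom
      rw [Category.id_comp, ← Category.assoc, ← e, Category.assoc])
    refine Eq.trans ?_ (sigmaVal_ext b rfl _)
    exact Sigma.ext rfl (heq_of_eq (hc.trans (map_map_of_left b _ a₂ (by simp [a₂, b]) _).symm)))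
  obtain rfl : g = U.hom := hS.ext fun T f hf => congrArg Sigma.fst (ht f hf)
  refine ⟨t, fun V k hk => ?_, fun t' ht' => ?_⟩
  · refine sigmaVal_snd_eq (g := V.hom) ?_
    refine Eq.trans ?_ ((ht k.left (left_mem R k hk)).trans (hz k hk).symm)
    refine Eq.trans ?_ (sigmaPre_map k.left U.hom t).symm
    let e : Over.mk (k.left ≫ U.hom) ⟶ V := Over.homMk (𝟙 V.left) (by simp)
    refine (sigmaVal_ext (g := V.hom) (e : Over.mk (k.left ≫ U.hom) ⟶ Over.mk V.hom) rfl _).symm.trans ?_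
    exact Sigma.ext rfl (heq_of_eq (map_map_of_left e k _ (by simp [e]) t))
  · refine sigmaVal_snd_eq (g := U.hom) (ht_unique ⟨U.hom, t'⟩ fun T f hf => ?_)
    refine (sigmaPre_map f U.hom t').trans (Sigma.ext rfl (heq_of_eq ?_))
    exact ht' _ ((Sieve.overEquiv_iff R f).1 hf)

end Groth.Agent.AdeqSite
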