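import Groth.Agent.AdeqSite.FFExact
import Groth.Agent.AdeqSite.SigmaPre
import Mathlib.AlgebraicGeometry.Sites.SheafQuasiCompact

/-!
# Adequate modules are fpqc sheaves
-/

set_option backward.isDefEq.respectTransparency false

universe u

open CategoryTheory Limits AlgebraicGeometry Opposite TensorProduct

namespace Groth.Agent.AdeqSite

open Groth.Agent.AdeqLib

variable {K : Precoverage Scheme.{u}} [BigSite.OSh K] {S : Scheme.{u}}

/-- The underlying presheaf of sets of a module. -/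
noncomputable abbrev setPre (M : BigSite.Mod K S) : (Over S)ᵒᵖ ⥤ Type (u + 1) :=
  M.val.presheaf ⋙ CategoryTheory.forget _

theorem isSheafFor_affine_arrow (M : BigSite.Mod K S) {R : CommRingCat.{u}} (a : Spec R ⟶ S)
    (hM : Adeq.adequate R ((Adeq.toMVF K a).obj M)) (B : Type u) [CommRing B] [Algebra R B]
    [Module.FaithfullyFlat R B] (x : BigSite.sectMod K M (obj a (Adeq.algOf R B)))
    (hx : ∀ (W : Over S) (g₁ g₂ : W ⟶ obj a (Adeq.algOf R B)),
      g₁ ≫ hom a (CommAlgCat.ofHom (Algebra.ofId R B) : Adeq.algOf R R ⟶ Adeq.algOf R B) =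
        g₂ ≫ hom a (CommAlgCat.ofHom (Algebra.ofId R B) : Adeq.algOf R R ⟶ Adeq.algOf R B) →
      rs M g₁ x = rs M g₂ x) :
    ∃! t, rs M (hom a (CommAlgCat.ofHom (Algebra.ofId R B) : Adeq.algOf R R ⟶ Adeq.algOf R B)) t = x := by
  obtain ⟨h1, h2⟩ := AdeqLib.exact_of_faithfullyFlat B hM
  obtain ⟨t, ht⟩ := h2 x (hx _ _ _ (by
    change (Adeq.specOver a).map _ ≫ (Adeq.specOver a).map _ = (Adeq.specOver a).map _ ≫ (Adeq.specOver a).map _
    rw [← Functor.map_comp, ← Functor.map_comp]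
    refine congrArg _ (Quiver.Hom.unop_inj (CommAlgCat.hom_ext (AlgHom.ext fun r => ?_)))
    exact (AlgHom.commutes _ r).trans (AlgHom.commutes _ r).symm))
  exact ⟨t, ht, fun t' ht' => h1 (ht'.trans ht.symm)⟩

theorem isSheafFor_affine (M : BigSite.Mod K S) {R B : CommRingCat.{u}} (φ : R ⟶ B)
    (hφ : φ.hom.FaithfullyFlat) (g : Spec R ⟶ S) (hM : Adeq.adequate R ((Adeq.toMVF K g).obj M)) :
    Presieve.IsSheafFor (setPre M)
      (Presieve.ofArrows (fun _ : PUnit.{u + 1} => Over.mk (Spec.map φ ≫ g))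
        (fun _ => (Over.homMk (Spec.map φ) rfl : Over.mk (Spec.map φ ≫ g) ⟶ Over.mk g))) := by
  let : Algebra R B := φ.hom.toAlgebra
  have : Module.FaithfullyFlat (R : Type u) (B : Type u) := hφ
  let π : obj g (Adeq.algOf R B) ⟶ obj g (Adeq.algOf R R) :=
    hom g (CommAlgCat.ofHom (Algebra.ofId R B))
  have hπ : π ≫ (baseIso g).inv = (Over.homMk (Spec.map φ) rfl : Over.mk (Spec.map φ ≫ g) ⟶ Over.mk g) :=
    Over.OverMorphism.ext (Category.comp_id _)
  rw [Presieve.isSheafFor_arrows_iff]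
  intro x hx
  obtain ⟨t, ht, ht'⟩ := isSheafFor_affine_arrow M g hM (B : Type u) (x PUnit.unit) (fun W g₁ g₂ h => by
    refine hx PUnit.unit PUnit.unit W g₁ g₂ ?_
    rw [← hπ, ← Category.assoc, h, Category.assoc])
  refine ⟨rs M (baseIso g).hom t, fun _ => ?_, fun t₁ ht₁ => ?_⟩
  · change rs M (Over.homMk (Spec.map φ) rfl : Over.mk (Spec.map φ ≫ g) ⟶ Over.mk g) (rs M (baseIso g).hom t) = _
    rw [← rs_comp, ← hπ, Category.assoc, Iso.inv_hom_id, Category.comp_id]
    exact ht
  · have h₁ : rs M π (rs M (baseIso g).inv t₁) = x PUnit.unit := by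
      rw [← rs_comp, hπ]
      exact ht₁ PUnit.unit
    rw [← ht' _ h₁]
    change t₁ = rs M (baseIso g).hom (rs M (baseIso g).inv t₁)
    rw [← rs_comp, Iso.hom_inv_id, rs_id]

/-- A module which is adequate on all affines is an fpqc sheaf. -/
theorem isSheaf_fpqc (hK : Scheme.zariskiPrecoverage ≤ K) (M : BigSite.Mod K S)
    (hM : ∀ (R : CommRingCat.{u}) (a : Spec R ⟶ S), Adeq.adequate R ((Adeq.toMVF K a).obj M)) :
    Presheaf.IsSheaf (QuotSh.J Scheme.fpqcPrecoverage S) ((BigSite.toAbMod K S).obj M).obj := by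
  rw [Presheaf.isSheaf_iff_isSheaf_forget _ _ (CategoryTheory.forget _), isSheaf_iff_isSheaf_of_type]
  have hrep : Presieve.IsSheaf Scheme.fpqcTopology (yoneda.obj S) :=
    GrothendieckTopology.Subcanonical.isSheaf_of_isRepresentable _
  have hQ : Presieve.IsSheaf Scheme.fpqcTopology (sigmaPre (setPre M)) := by
    rw [Scheme.fpqcTopology_eq_propQCTopology, isSheaf_type_propQCTopology_iff]
    refine ⟨?_, fun {R B} φ hflat hsurj => ?_⟩
    · rw [Precoverage.isSheaf_toGrothendieck_iff_of_isStableUnderBaseChange]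
      intro X F hF
      obtain ⟨ι, Y, f, rfl⟩ := F.exists_eq_ofArrows
      refine isSheafFor_sigmaPre f (hrep.isSheafFor _ ?_) fun g => ?_
      · exact Precoverage.generate_mem_toGrothendieck (Scheme.zariskiPrecoverage_le_fpqcPrecoverage _ hF)
      · exact isSheafFor_of_mem M (fun i => Over.mk (f i ≫ g)) _ (hK _ hF)
    · rw [← Presieve.ofArrows_pUnit.{u}]
      refine isSheafFor_sigmaPre _ (hrep.isSheafFor _ ?_) fun g => ?_
      · rw [Presieve.ofArrows_pUnit]
        exact Precoverage.generate_mem_toGrothendieck (Scheme.Hom.singleton_mem_fpqcPrecoverage _)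
      · refine isSheafFor_affine M φ ?_ g (hM R g)
        exact RingHom.FaithfullyFlat.iff_flat_and_comap_surjective.2
          ⟨Flat.SpecMap_iff.1 hflat, hsurj.surj⟩
  intro U R hR
  rw [GrothendieckTopology.mem_over_iff] at hR
  exact isSheafFor_of_sigmaPre R (hrep _ hR).isSeparatedFor (hQ _ hR)

end Groth.Agent.AdeqSite
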