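import Groth.Agent.AdeqSite.Refine

/-!
# Pullback and descent of adequate modules on big sites
-/

set_option backward.isDefEq.respectTransparency false

universe u

open CategoryTheory Limits AlgebraicGeometry Opposite TensorProduct

namespace Groth.Agent.AdeqSite

open Groth.Agent.AdeqLib

variable {K : Precoverage Scheme.{u}} [BigSite.OSh K] {S T : Scheme.{u}} (f : T ⟶ S)
variable {R : CommRingCat.{u}} (b : Spec R ⟶ T)

/-- `Spec B → T → S` as an object over `S`. -/
noncomputable def pullObjIso (B : Adeq.Alg R) :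
    obj (b ≫ f) B ≅ (Over.map f).obj (obj b B) :=
  overCongr _ _ (Category.assoc _ b f).symm

theorem pullObjIso_natural {B C : Adeq.Alg R} (h : B ⟶ C) :
    hom (b ≫ f) h ≫ (pullObjIso f b B).hom =
      (pullObjIso f b C).hom ≫ (Over.map f).map (hom b h) :=
  Over.OverMorphism.ext (map_id_comm (Spec.map (CommRingCat.ofHom h.hom.toRingHom)))

theorem rs_pullObjIso_smul (M : BigSite.Mod K S) (B : Adeq.Alg R) (c : (B : Type u))
    (x : ((Adeq.toMVF K b).obj ((BigSite.pullMod K f).obj M)).obj (Adeq.pt B)) :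
    rs M (pullObjIso f b B).hom
        (@HSMul.hSMul (B : Type u) (((Adeq.toMVF K b).obj ((BigSite.pullMod K f).obj M)).obj (Adeq.pt B))
          (((Adeq.toMVF K b).obj ((BigSite.pullMod K f).obj M)).obj (Adeq.pt B)) _ c x) =
      @HSMul.hSMul (B : Type u) (((Adeq.toMVF K (b ≫ f)).obj M).obj (Adeq.pt B))
        (((Adeq.toMVF K (b ≫ f)).obj M).obj (Adeq.pt B)) _ c (rs M (pullObjIso f b B).hom x) := by
  refine (M.val.map_smul (pullObjIso f b B).hom.op (Adeq.toSect K b B c) x).trans ?_
  congr 1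

theorem rs_pullObjIso_natural (M : BigSite.Mod K S) {B C : Adeq.Alg R} (h : B ⟶ C)
    (x : BigSite.sectMod K M ((Over.map f).obj (obj b B))) :
    rs M (pullObjIso f b C).hom (rs M ((Over.map f).map (hom b h)) x) =
      rs M (hom (b ≫ f) h) (rs M (pullObjIso f b B).hom x) :=
  (rs_comp M _ _ x).symm.trans
    ((congrArg (fun g => rs M g x) (pullObjIso_natural f b h).symm).trans (rs_comp M _ _ x))

/-- The components of `pullIso`. -/
noncomputable def pullApp (M : BigSite.Mod K S) (X : (Adeq.Alg R)ᵒᵖᵒᵖ) :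
    ((Adeq.toMVF K b).obj ((BigSite.pullMod K f).obj M)).obj X ≃ₗ[(X.unop.unop : Type u)]
      ((Adeq.toMVF K (b ≫ f)).obj M).obj X :=
  { (rsEquiv M (pullObjIso f b X.unop.unop)) with
    map_smul' := fun c x => rs_pullObjIso_smul f b M X.unop.unop c x }

/-- The functor on algebras of a pulled back module. -/
noncomputable def pullIso (M : BigSite.Mod K S) :
    (Adeq.toMVF K b).obj ((BigSite.pullMod K f).obj M) ≅ (Adeq.toMVF K (b ≫ f)).obj M :=
  PresheafOfModules.isoMk (fun X => LinearEquiv.toModuleIso (pullApp f b M X))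
    (fun _ _ h => ModuleCat.hom_ext (LinearMap.ext fun x =>
      rs_pullObjIso_natural f b M h.unop.unop x))

theorem adequate_pull_iff (M : BigSite.Mod K S) :
    Adeq.adequate R ((Adeq.toMVF K b).obj ((BigSite.pullMod K f).obj M)) ↔
      Adeq.adequate R ((Adeq.toMVF K (b ≫ f)).obj M) :=
  ⟨AdeqLib.adequate_of_iso (pullIso f b M), AdeqLib.adequate_of_iso (pullIso f b M).symm⟩

/-- Adequacy on all affines over `S` gives adequacy of every pullback. -/
theorem adequateMod_pull (hK : Scheme.zariskiPrecoverage ≤ K) (M : BigSite.Mod K S)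
    (h : ∀ (R : CommRingCat.{u}) (a : Spec R ⟶ S), Adeq.adequate R ((Adeq.toMVF K a).obj M)) :
    Adeq.adequateMod K T ((BigSite.pullMod K f).obj M) :=
  ⟨_, fun _ : T.affineCover.I₀ => _, T.affineCover.f, hK _ T.affineCover.mem₀,
    fun _ => (adequate_pull_iff f _ M).2 (h _ _)⟩

/-- Adequacy is local. -/
theorem adequateMod_of_cover [K.IsStableUnderComposition] (M : BigSite.Mod K S) {ι : Type u}
    (T' : ι → Scheme.{u}) (g : ∀ i, T' i ⟶ S) (hcov : Presieve.ofArrows T' g ∈ K.coverings S)
    (h : ∀ i, Adeq.adequateMod K (T' i) ((BigSite.pullMod K (g i)).obj M)) :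
    Adeq.adequateMod K S M := by
  choose σ R b hb had using h
  exact ⟨Σ i, σ i, fun p => R p.1 p.2, fun p => b p.1 p.2 ≫ g p.1,
    Precoverage.comp_mem_coverings g hcov (Y := fun i j => Spec (R i j)) b hb,
    fun p => (adequate_pull_iff (g p.1) (b p.1 p.2) M).1 (had p.1 p.2)⟩

end Groth.Agent.AdeqSite
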