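import Groth.Agent.AdeqSite.Basic
import Mathlib.AlgebraicGeometry.Morphisms.UniversallyOpen
import Mathlib.AlgebraicGeometry.Sites.Fpqc

/-!
# Adequate modules are adequate on every affine object
-/

set_option backward.isDefEq.respectTransparency false

universe u

open CategoryTheory Limits AlgebraicGeometry Opposite TensorProduct

namespace Groth.Agent.AdeqSite

open Groth.Agent.AdeqLib

/-- Equal structure maps give isomorphic objects over `S`. -/
def overCongr {S X : Scheme.{u}} (f g : X ⟶ S) (h : f = g) : Over.mk f ≅ Over.mk g :=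
  Over.isoMk (Iso.refl X) (by subst h; exact Category.id_comp f)

theorem spec_comp_eq {A B C : Type u} [CommRing A] [CommRing B] [CommRing C] {S : Scheme.{u}}
    (f : A →+* B) (g : B →+* C) (h : A →+* C) (e : h = g.comp f) (a : Spec (CommRingCat.of A) ⟶ S) :
    Spec.map (CommRingCat.ofHom g) ≫ Spec.map (CommRingCat.ofHom f) ≫ a =
      Spec.map (CommRingCat.ofHom h) ≫ a := by
  subst e
  rw [CommRingCat.ofHom_comp, Spec.map_comp, Category.assoc]

theorem map_id_comm {X Y : Scheme.{u}} (φ : Y ⟶ X) : φ ≫ 𝟙 X = 𝟙 Y ≫ φ :=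
  (Category.comp_id φ).trans (Category.id_comp φ).symm

section Restr

variable {K : Precoverage Scheme.{u}} [BigSite.OSh K] {S : Scheme.{u}}
variable {R : CommRingCat.{u}} (a : Spec R ⟶ S) (R' : CommRingCat.{u}) [Algebra R R']

/-- The structure map `Spec R' → S`. -/
noncomputable abbrev restrHom : Spec R' ⟶ S := Spec.map (CommRingCat.ofHom (algebraMap R R')) ≫ a

theorem spec_restr_eq (B : Adeq.Alg R') :
    Spec.map (CommRingCat.ofHom (algebraMap R' B)) ≫ Spec.map (CommRingCat.ofHom (algebraMap R R')) ≫ a =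
      Spec.map (CommRingCat.ofHom ((algebraMap R' B).comp (algebraMap R R'))) ≫ a :=
  spec_comp_eq (algebraMap R R') (algebraMap R' B) _ rfl a

/-- The two descriptions of `Spec B → S` for an `R'`-algebra `B`. -/
noncomputable def objIso (B : Adeq.Alg R') :
    obj (restrHom a R') B ≅ obj a ((Adeq.Alg.restr R R').obj B) :=
  overCongr _ _ (spec_restr_eq a R' B)

theorem objIso_natural {B C : Adeq.Alg R'} (h : B ⟶ C) :
    hom (restrHom a R') h ≫ (objIso a R' B).hom =
      (objIso a R' C).hom ≫ hom a ((Adeq.Alg.restr R R').map h) :=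
  Over.OverMorphism.ext (map_id_comm (Spec.map (CommRingCat.ofHom h.hom.toRingHom)))

theorem rs_objIso_smul (M : BigSite.Mod K S) (B : Adeq.Alg R') (b : (B : Type u))
    (x : ((Adeq.toMVF K a).obj M).obj (Adeq.pt ((Adeq.Alg.restr R R').obj B))) :
    rs M (objIso a R' B).hom
        (@HSMul.hSMul (((Adeq.Alg.restr R R').obj B) : Type u)
          (((Adeq.toMVF K a).obj M).obj (Adeq.pt ((Adeq.Alg.restr R R').obj B)))
          (((Adeq.toMVF K a).obj M).obj (Adeq.pt ((Adeq.Alg.restr R R').obj B))) _ b x) =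
      @HSMul.hSMul (B : Type u) (((Adeq.toMVF K (restrHom a R')).obj M).obj (Adeq.pt B))
        (((Adeq.toMVF K (restrHom a R')).obj M).obj (Adeq.pt B)) _ b (rs M (objIso a R' B).hom x) := by
  refine (M.val.map_smul (objIso a R' B).hom.op
    (Adeq.toSect K a ((Adeq.Alg.restr R R').obj B) b) x).trans ?_
  congr 1

/-- Transport of sections along an isomorphism of objects. -/
noncomputable def rsEquiv (M : BigSite.Mod K S) {U V : Over S} (e : V ≅ U) :
    BigSite.sectMod K M U ≃+ BigSite.sectMod K M V :=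
  { rs M e.hom with
    invFun := rs M e.inv
    left_inv := fun x => (rs_comp M e.hom e.inv x).symm.trans
      ((congrArg (fun g => rs M g x) e.inv_hom_id).trans (rs_id M x))
    right_inv := fun x => (rs_comp M e.inv e.hom x).symm.trans
      ((congrArg (fun g => rs M g x) e.hom_inv_id).trans (rs_id M x)) }

theorem rs_objIso_natural (M : BigSite.Mod K S) {B C : Adeq.Alg R'} (h : B ⟶ C)
    (x : BigSite.sectMod K M (obj a ((Adeq.Alg.restr R R').obj B))) :
    rs M (objIso a R' C).hom (rs M (hom a ((Adeq.Alg.restr R R').map h)) x) =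
      rs M (hom (restrHom a R') h) (rs M (objIso a R' B).hom x) :=
  (rs_comp M _ _ x).symm.trans
    ((congrArg (fun g => rs M g x) (objIso_natural a R' h).symm).trans (rs_comp M _ _ x))

/-- The components of `restrIso`. -/
noncomputable def restrApp (M : BigSite.Mod K S) (X : (Adeq.Alg R')ᵒᵖᵒᵖ) :
    ((Adeq.restr R R').obj ((Adeq.toMVF K a).obj M)).obj X ≃ₗ[(X.unop.unop : Type u)]
      ((Adeq.toMVF K (restrHom a R')).obj M).obj X :=
  { (rsEquiv M (objIso a R' X.unop.unop)) with
    map_smul' := fun b x => rs_objIso_smul a R' M X.unop.unop b x }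

/-- Restriction of `B ↦ M(Spec B → S)` along `R → R'`. -/
noncomputable def restrIso (M : BigSite.Mod K S) :
    (Adeq.restr R R').obj ((Adeq.toMVF K a).obj M) ≅ (Adeq.toMVF K (restrHom a R')).obj M :=
  PresheafOfModules.isoMk (fun X => LinearEquiv.toModuleIso (restrApp a R' M X))
    (fun _ _ f => ModuleCat.hom_ext (LinearMap.ext fun x =>
      rs_objIso_natural a R' M f.unop.unop x))

theorem adequate_restr_iff (M : BigSite.Mod K S) :
    Adeq.adequate R' ((Adeq.restr R R').obj ((Adeq.toMVF K a).obj M)) ↔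
      Adeq.adequate R' ((Adeq.toMVF K (restrHom a R')).obj M) :=
  ⟨AdeqLib.adequate_of_iso (restrIso a R' M), AdeqLib.adequate_of_iso (restrIso a R' M).symm⟩

end Restr

/-- Adequacy on `Spec R → S` passes to every affine scheme over `Spec R`. -/
theorem adequate_comp {K : Precoverage Scheme.{u}} [BigSite.OSh K] {S : Scheme.{u}} {R R' : CommRingCat.{u}}
    (a : Spec R ⟶ S) (g : Spec R' ⟶ Spec R) (M : BigSite.Mod K S)
    (h : Adeq.adequate R ((Adeq.toMVF K a).obj M)) :
    Adeq.adequate R' ((Adeq.toMVF K (g ≫ a)).obj M) := by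
  obtain ⟨ψ, rfl⟩ : ∃ ψ, Spec.map ψ = g := ⟨Spec.preimage g, Spec.map_preimage g⟩
  let : Algebra R R' := ψ.hom.toAlgebra
  exact (adequate_restr_iff a R' M).1 (AdeqLib.adequate_restr h)

section Refinement

variable {P : MorphismProperty Scheme.{u}}

theorem exists_finite_affine_refinement [P.IsStableUnderBaseChange]
    (hopen : ∀ {X Y : Scheme.{u}} (f : X ⟶ Y), P f → IsOpenMap f)
    (hres : ∀ {X Y Z : Scheme.{u}} (j : X ⟶ Y) [IsOpenImmersion j] (f : Y ⟶ Z), P f → P (j ≫ f))
    {S : Scheme.{u}} {ι : Type*} {T : ι → Scheme.{u}} (f : ∀ i, T i ⟶ S)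
    (hcov : Presieve.ofArrows T f ∈ (Scheme.precoverage P).coverings S)
    {R : CommRingCat.{u}} (a : Spec R ⟶ S) :
    ∃ (κ : Type u) (_ : Finite κ) (R' : κ → CommRingCat.{u}) (g : ∀ k, Spec (R' k) ⟶ Spec R),
      Presieve.ofArrows (fun k => Spec (R' k)) g ∈ (Scheme.precoverage P).coverings (Spec R) ∧
        ∀ k, ∃ i, ∃ h : Spec (R' k) ⟶ T i, g k ≫ a = h ≫ f i := by
  change Presieve.ofArrows T f ∈ Scheme.precoverage P S at hcov
  rw [Scheme.ofArrows_mem_precoverage_iff] at hcov
  have hx : ∀ x : Spec R, ∃ (B : CommRingCat.{u}) (g : Spec B ⟶ Spec R), P g ∧ x ∈ Set.range g ∧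
      ∃ i, ∃ h : Spec B ⟶ T i, g ≫ a = h ≫ f i := by
    intro x
    obtain ⟨i, y, hy⟩ := hcov.1 (a x)
    obtain ⟨w, hw, -⟩ := Scheme.Pullback.exists_preimage_pullback (f := a) (g := f i) x y hy.symm
    obtain ⟨U, hU, hwU, -⟩ := exists_isAffineOpen_mem_and_subset
      (X := pullback a (f i)) (U := ⊤) (x := w) trivial
    obtain ⟨B, j, hj, v, hv⟩ : ∃ (B : CommRingCat.{u}) (j : Spec B ⟶ pullback a (f i)),
        IsOpenImmersion j ∧ ∃ v, j v = w := by
      refine ⟨_, hU.fromSpec, inferInstance, ?_⟩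
      have hw' : w ∈ Set.range hU.fromSpec := by rw [hU.range_fromSpec]; exact hwU
      exact hw'
    have := hj
    refine ⟨B, j ≫ pullback.fst a (f i), hres j _ (MorphismProperty.pullback_fst _ _ (hcov.2 i)),
      ⟨v, ?_⟩, i, j ≫ pullback.snd a (f i), ?_⟩
    · rw [Scheme.Hom.comp_apply, hv, hw]
    · rw [Category.assoc, Category.assoc, pullback.condition]
  choose B g hg hmem hfac using hx
  obtain ⟨t, ht⟩ := isCompact_univ.elim_finite_subcover (fun x => Set.range (g x))
    (fun x => (hopen (g x) (hg x)).isOpen_range) (fun x _ => Set.mem_iUnion.2 ⟨x, hmem x⟩)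
  refine ⟨{x // x ∈ t}, inferInstance, fun k => B k.1, fun k => g k.1, ?_, fun k => hfac k.1⟩
  rw [Scheme.ofArrows_mem_precoverage_iff]
  refine ⟨fun x => ?_, fun k => hg k.1⟩
  obtain ⟨i, hi, hxi⟩ := Set.mem_iUnion₂.1 (ht (Set.mem_univ x))
  exact ⟨⟨i, hi⟩, hxi⟩

variable [BigSite.OSh (Scheme.precoverage P)] [(Scheme.precoverage P).IsStableUnderBaseChange]

theorem adequate_toMVF_of [P.IsStableUnderBaseChange]
    (hopen : ∀ {X Y : Scheme.{u}} (f : X ⟶ Y), P f → IsOpenMap f)
    (hres : ∀ {X Y Z : Scheme.{u}} (j : X ⟶ Y) [IsOpenImmersion j] (f : Y ⟶ Z), P f → P (j ≫ f))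
    {S : Scheme.{u}} (M : BigSite.Mod (Scheme.precoverage P) S)
    (hM : Adeq.adequateMod (Scheme.precoverage P) S M) {R : CommRingCat.{u}} (a : Spec R ⟶ S) :
    Adeq.adequate R ((Adeq.toMVF (Scheme.precoverage P) a).obj M) := by
  obtain ⟨ι, R₀, a₀, hcov, hadq⟩ := hM
  obtain ⟨κ, hκ, R', g, hg, hfac⟩ := exists_finite_affine_refinement hopen hres a₀ hcov a
  let : ∀ k, Algebra R (R' k) := fun k => (Spec.preimage (g k)).hom.toAlgebra
  have e : ∀ k, Spec.map (CommRingCat.ofHom (algebraMap R (R' k))) = g k := fun k =>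
    Spec.map_preimage (g k)
  refine adequate_of_cover a (fun k => (R' k : Type u)) M ?_ fun k => ?_
  · have : (fun k => Spec.map (CommRingCat.ofHom (algebraMap R (R' k)))) = g := funext e
    exact this ▸ hg
  · refine (adequate_restr_iff a (R' k) M).2 ?_
    obtain ⟨i, h, hh⟩ := hfac k
    rw [restrHom, e, hh]
    exact adequate_comp (a₀ i) h M (hadq i)

end Refinement

instance : BigSite.OSh (Scheme.precoverage (@Flat.{u} ⊓ @LocallyOfFinitePresentation.{u})) :=
  inferInstanceAs (BigSite.OSh Scheme.fppfPrecoverage.{u})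

/-- An adequate module on the big fppf site is adequate on every affine scheme over the base. -/
theorem adequate_toMVF_fppf {S : Scheme.{u}} (M : BigSite.Mod Scheme.fppfPrecoverage S)
    (hM : Adeq.adequateMod Scheme.fppfPrecoverage S M) {R : CommRingCat.{u}} (a : Spec R ⟶ S) :
    Adeq.adequate R ((Adeq.toMVF Scheme.fppfPrecoverage a).obj M) :=
  adequate_toMVF_of (P := @Flat ⊓ @LocallyOfFinitePresentation)
    (fun f hf => have := hf.1; have := hf.2; f.isOpenMap)
    (fun _ _ _ hf => have := hf.1; have := hf.2; ⟨inferInstance, inferInstance⟩) M hM a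

/-- An adequate module on the big Zariski site is adequate on every affine scheme over the base. -/
theorem adequate_toMVF_zariski {S : Scheme.{u}} (M : BigSite.Mod Scheme.zariskiPrecoverage S)
    (hM : Adeq.adequateMod Scheme.zariskiPrecoverage S M) {R : CommRingCat.{u}} (a : Spec R ⟶ S) :
    Adeq.adequate R ((Adeq.toMVF Scheme.zariskiPrecoverage a).obj M) :=
  adequate_toMVF_of (P := @IsOpenImmersion)
    (fun f hf => have := hf; f.isOpenEmbedding.isOpenMap)
    (fun j _ f hf => have := hf; inferInstanceAs (IsOpenImmersion (j ≫ f))) M hM a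

end Groth.Agent.AdeqSite
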